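import Groth.Agent.ArtFunLib.Hull.Prorep

/-! Maps out of pro-representing rings. -/

universe u v

open CategoryTheory ArtFun ArtFun.Art

namespace Groth.Agent.ArtFunLib.Hull

variable {Λ : Type u} {k : Type u} [CommRing Λ] [Field k] [Algebra Λ k] {F : Art Λ k ⥤ Type v}

theorem ker_res_eq (S : CRing Λ k) : RingHom.ker S.res = IsLocalRing.maximalIdeal S.carrier :=
  IsLocalRing.eq_maximalIdeal (ker_isMaximal S.res S.res_surjective)

theorem isNear_ker_pow (S : CRing Λ k) (n : ℕ) :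
    IsNear S.res (RingHom.ker S.res ^ (n + 1)) :=
  ⟨Ideal.pow_le_self (Nat.succ_ne_zero n), n + 1, le_rfl⟩

/-- The truncation of a coefficient ring. -/
noncomputable abbrev lvl (S : CRing Λ k) (n : ℕ) : Art Λ k :=
  qobj S.res S.res_surjective (RingHom.ker S.res ^ (n + 1)) (isNear_ker_pow S n)

/-- The quotient map to a truncation. -/
noncomputable def lvlHom (S : CRing Λ k) (n : ℕ) : HomSet S.carrier S.res (lvl S n) :=
  ⟨qmk S.res S.res_surjective _ _, rfl⟩

/-- The transition maps of the truncations. -/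
noncomputable abbrev lvlTrans (S : CRing Λ k) {p n : ℕ} (h : p ≤ n) : lvl S n ⟶ lvl S p :=
  qTrans S.res S.res_surjective _ _ (Ideal.pow_le_pow_right (Nat.succ_le_succ h))

/-- Compatible maps to the truncations come from one map, and carry the family along. -/
theorem exists_along_of_compatible {R : Type u} [CommRing R] [Algebra Λ R] {resR : R →ₐ[Λ] k}
    {ξ : Family R resR F} (S : CRing Λ k) (η : Family S.carrier S.res F)
    (φ : ∀ n, HomSet R resR (lvl S n))
    (hφ : ∀ n, ξ.app (lvl S n) (φ n) = η.app (lvl S n) (lvlHom S n))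
    (hφt : ∀ p n (h : p ≤ n), HomSet.map (lvlTrans S h) (φ n) = φ p) :
    ∃ g : R →ₐ[Λ] S.carrier, ∃ hg : S.res.comp g = resR, ξ.along g hg = η ∧
      ∀ n x, qmk S.res S.res_surjective (RingHom.ker S.res ^ (n + 1)) (isNear_ker_pow S n) (g x) =
        (φ n).1 x := by
  let m := RingHom.ker S.res
  have hc : IsAdicComplete m S.carrier := by
    change IsAdicComplete (RingHom.ker S.res) S.carrier
    rw [ker_res_eq]
    exact S.isAdicComplete
  let A : ℕ → Art Λ k := lvl S
  let q : ∀ n, HomSet S.carrier S.res (A n) := lvlHom S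
  let t : ∀ {p n}, p ≤ n → (A n ⟶ A p) := fun {p n} h => lvlTrans S h
  let f : ∀ n : ℕ, R →ₐ[Λ] S.carrier ⧸ m ^ n := fun n =>
    (Ideal.Quotient.factorₐ Λ (Ideal.pow_le_pow_right (Nat.le_succ n))).comp (φ n).1
  have hf : ∀ {p n : ℕ} (h : p ≤ n),
      (Ideal.Quotient.factorₐ Λ (Ideal.pow_le_pow_right h)).comp (f n) = f p := fun {p n} h => by
    refine AlgHom.ext fun x => ?_
    have e : t h ((φ n).1 x) = (φ p).1 x :=
      congrArg (fun ψ : HomSet R resR (A p) => ψ.1 x) (hφt p n h)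
    change Ideal.Quotient.factorₐ Λ (Ideal.pow_le_pow_right h)
      (Ideal.Quotient.factorₐ Λ (Ideal.pow_le_pow_right (Nat.le_succ n)) ((φ n).1 x)) =
      Ideal.Quotient.factorₐ Λ (Ideal.pow_le_pow_right (Nat.le_succ p)) ((φ p).1 x)
    rw [← e]
    obtain ⟨s, hs⟩ := qmk_surjective S.res S.res_surjective _ (isNear_ker_pow S n) ((φ n).1 x)
    rw [← hs]
    rfl
  let g : R →ₐ[Λ] S.carrier :=
    ((AdicCompletion.ofAlgEquiv m).symm.toAlgHom.restrictScalars Λ).comp
      (AdicCompletion.liftAlgHom m f hf)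
  have hgφ : ∀ n x, qmk S.res S.res_surjective (m ^ (n + 1)) (isNear_ker_pow S n) (g x) = (φ n).1 x := by
    intro n x
    refine (AdicCompletion.mk_ofAlgEquiv_symm m (n + 1) _).trans ?_
    refine (AdicCompletion.evalₐ_liftAlgHom m f hf (n + 1) x).trans ?_
    exact congrArg (fun ψ : HomSet R resR (A n) => ψ.1 x) (hφt n (n + 1) (Nat.le_succ n))
  have hg : S.res.comp g = resR := AlgHom.ext fun x => by
    have h := DFunLike.congr_fun (φ 0).2 x
    rw [AlgHom.comp_apply, ← hgφ] at h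
    exact h
  refine ⟨g, hg, ?_, hgφ⟩
  have happ : ∀ (B : Art Λ k) (ψ : HomSet S.carrier S.res B),
      (ξ.along g hg).app B ψ = η.app B ψ := fun B ψ => by
    obtain ⟨hle, N, hN⟩ := isNear_ker S.res ψ.1 ψ.2
    obtain ⟨j, hj⟩ := exists_factor (q N).1 (qmk_surjective _ _ _ _) rfl ψ
      (fun x hx => hN (Ideal.pow_le_pow_right (Nat.le_succ N)
        ((qmk_eq_zero S.res S.res_surjective (isNear_ker_pow S N) x).1 (RingHom.mem_ker.1 hx))))
    calc (ξ.along g hg).app B ψ = ξ.app B (HomSet.map j (φ N)) :=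
          congrArg (ξ.app B) (Subtype.ext (AlgHom.ext fun x =>
            (DFunLike.congr_fun hj (g x)).symm.trans (congrArg j.toAlgHom (hgφ N x))))
      _ = η.app B (HomSet.map j (q N)) := by rw [ξ.natural, hφ, η.natural]
      _ = η.app B ψ := congrArg (η.app B) (Subtype.ext hj)
  cases η
  simp only [Family.along, Family.mk.injEq]
  exact funext fun B => funext (happ B)

/-- A family is the image of a universal family along exactly one map. -/
theorem existsUnique_along {R : Type u} [CommRing R] [Algebra Λ R] {resR : R →ₐ[Λ] k}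
    {ξ : Family R resR F} (hu : IsUniversal ξ) (S : CRing Λ k) (η : Family S.carrier S.res F) :
    ∃! g : R →ₐ[Λ] S.carrier, ∃ hg : S.res.comp g = resR, ξ.along g hg = η := by
  choose φ hφ using fun n => (hu (lvl S n)).2 (η.app (lvl S n) (lvlHom S n))
  have hφt : ∀ p n (h : p ≤ n), HomSet.map (lvlTrans S h) (φ n) = φ p := fun p n h => (hu _).1 (by
    rw [ξ.natural, hφ, hφ, ← η.natural]
    exact congrArg (η.app _) (Subtype.ext (AlgHom.ext fun _ => rfl)))
  obtain ⟨g, hg, hge, hgφ⟩ := exists_along_of_compatible S η φ hφ hφt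
  let m := RingHom.ker S.res
  have hc : IsAdicComplete m S.carrier := by
    change IsAdicComplete (RingHom.ker S.res) S.carrier
    rw [ker_res_eq]
    exact S.isAdicComplete
  let A : ℕ → Art Λ k := lvl S
  let q : ∀ n, HomSet S.carrier S.res (A n) := lvlHom S
  refine ⟨g, ⟨hg, hge⟩, fun g' ⟨hg', e⟩ => ?_⟩
  refine AlgHom.ext fun x => eq_of_sub_eq_zero (IsHausdorff.haus (I := m)
    (inferInstance : IsHausdorff m S.carrier) _ fun n => ?_)
  rw [SModEq.sub_mem, sub_zero, Ideal.smul_eq_mul, Ideal.mul_top]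
  refine Ideal.pow_le_pow_right (Nat.le_succ n)
    ((qmk_eq_zero S.res S.res_surjective (isNear_ker_pow S n) _).1 ?_)
  rw [map_sub, hgφ, sub_eq_zero]
  have h : ((ξ.along g' hg').app (A n) (q n)) = ξ.app (A n) (φ n) := by rw [e, hφ]
  exact congrArg (fun ψ : HomSet R resR (A n) => ψ.1 x) ((hu (A n)).1 h)

/-- Versal families map onto every family, along some map. -/
theorem exists_along_of_versal {R : Type u} [CommRing R] [Algebra Λ R] {resR : R →ₐ[Λ] k}
    {ξ : Family R resR F} (hv : IsVersal ξ) (h0 : H0 F) (S : CRing Λ k)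
    (η : Family S.carrier S.res F) :
    ∃ g : R →ₐ[Λ] S.carrier, ∃ hg : S.res.comp g = resR, ξ.along g hg = η := by
  let T : ℕ → Type _ := fun n =>
    {φ : HomSet R resR (lvl S n) // ξ.app _ φ = η.app _ (lvlHom S n)}
  have hT : ∀ p n (h : p ≤ n), F.map (lvlTrans S h) (η.app _ (lvlHom S n)) = η.app _ (lvlHom S p) :=
    fun p n h => by
      rw [← η.natural]
      exact congrArg (η.app _) (Subtype.ext (AlgHom.ext fun _ => rfl))
  have step : ∀ n, ∀ φ : T n, ∃ ψ : T (n + 1), HomSet.map (lvlTrans S (Nat.le_succ n)) ψ.1 = φ.1 :=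
    fun n φ => by
      obtain ⟨ψ, h₁, h₂⟩ := hv (lvlTrans S (Nat.le_succ n)) (qTrans_surjective _ _ _ _ _) φ.1
        (η.app _ (lvlHom S (n + 1))) ((hT _ _ _).trans φ.2.symm)
      exact ⟨⟨ψ, h₂⟩, h₁⟩
  choose next hnext using step
  obtain ⟨φ₀, hφ₀⟩ := surjective_app_of_isVersal hv h0 _ (η.app _ (lvlHom S 0))
  let φ : ∀ n, T n := fun n => Nat.rec ⟨φ₀, hφ₀⟩ next n
  have hφt : ∀ p n (h : p ≤ n), HomSet.map (lvlTrans S h) (φ n).1 = (φ p).1 := by
    intro p n h
    induction n, h using Nat.le_induction with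
    | base =>
      refine Subtype.ext (AlgHom.ext fun x => ?_)
      obtain ⟨s, hs⟩ := qmk_surjective S.res S.res_surjective _ (isNear_ker_pow S p) ((φ p).1.1 x)
      change lvlTrans S le_rfl ((φ p).1.1 x) = (φ p).1.1 x
      rw [← hs]
      rfl
    | succ n h ih =>
      rw [← ih, ← hnext n (φ n)]
      refine Subtype.ext (AlgHom.ext fun x => ?_)
      obtain ⟨s, hs⟩ := qmk_surjective S.res S.res_surjective _ (isNear_ker_pow S (n + 1))
        ((φ (n + 1)).1.1 x)
      change lvlTrans S (h.trans (Nat.le_succ n)) ((φ (n + 1)).1.1 x) =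
        lvlTrans S h (lvlTrans S (Nat.le_succ n) ((φ (n + 1)).1.1 x))
      rw [← hs]
      rfl
  obtain ⟨g, hg, hge, -⟩ := exists_along_of_compatible S η (fun n => (φ n).1) (fun n => (φ n).2) hφt
  exact ⟨g, hg, hge⟩

/-- Pro-representing pairs are unique up to a unique isomorphism. -/
theorem existsUnique_equiv (P Q : ProRep F) :
    ∃! e : P.ring.carrier ≃ₐ[Λ] Q.ring.carrier,
      ∃ he : Q.ring.res.comp e.toAlgHom = P.ring.res,
        P.family.along e.toAlgHom he = Q.family := by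
  obtain ⟨f, ⟨hf, hf'⟩, hfu⟩ := existsUnique_along P.universal Q.ring Q.family
  obtain ⟨g, ⟨hg, hg'⟩, -⟩ := existsUnique_along Q.universal P.ring P.family
  obtain ⟨i, -, hiu⟩ := existsUnique_along P.universal P.ring P.family
  obtain ⟨j, -, hju⟩ := existsUnique_along Q.universal Q.ring Q.family
  have hgf : g.comp f = AlgHom.id Λ _ := (hiu (g.comp f)
    ⟨by rw [← AlgHom.comp_assoc, hg, hf], by
      refine Eq.trans ?_ hg'
      rw [← hf']
      rfl⟩).trans (hiu (AlgHom.id Λ _) ⟨AlgHom.comp_id _, rfl⟩).symm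
  have hfg : f.comp g = AlgHom.id Λ _ := (hju (f.comp g)
    ⟨by rw [← AlgHom.comp_assoc, hf, hg], by
      refine Eq.trans ?_ hf'
      rw [← hg']
      rfl⟩).trans (hju (AlgHom.id Λ _) ⟨AlgHom.comp_id _, rfl⟩).symm
  refine ⟨AlgEquiv.ofAlgHom f g hfg hgf, ⟨hf, hf'⟩, fun e ⟨he, he'⟩ => ?_⟩
  exact AlgEquiv.ext fun x => DFunLike.congr_fun (hfu e.toAlgHom ⟨he, he'⟩) x

end Groth.Agent.ArtFunLib.Hull
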