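import Groth.Agent.ArtFunLib.Hull.Quot
import Groth.Agent.LocalCrit.Complete
import Groth.Agent.AdicLib.Basic
import Mathlib.RingTheory.AdicCompletion.LocalRing

/-! The complete local ring of a decreasing sequence of near ideals. -/

universe u v

open CategoryTheory ArtFun ArtFun.Art

namespace Groth.Agent.ArtFunLib.Hull

theorem exists_stable {B : Type u} [CommRing B] (I : Ideal B) [IsArtinianRing (B ⧸ I)]
    (K : ℕ → Ideal B) (hanti : ∀ {p q}, p ≤ q → K q ≤ K p) :
    ∃ q₀, ∀ q, q₀ ≤ q → K q₀ ≤ K q ⊔ I := by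
  let f : ℕ →o (Submodule (B ⧸ I) (B ⧸ I))ᵒᵈ :=
    ⟨fun q => OrderDual.toDual ((K q).map (Ideal.Quotient.mk I)), fun p q h => by
      exact OrderDual.toDual_le_toDual.2 (Ideal.map_mono (hanti h))⟩
  obtain ⟨q₀, hq₀⟩ := IsArtinian.monotone_stabilizes f
  refine ⟨q₀, fun q hq x hx => ?_⟩
  have h : (K q₀).map (Ideal.Quotient.mk I) = (K q).map (Ideal.Quotient.mk I) :=
    OrderDual.toDual.injective (hq₀ q hq)
  have hx' := Ideal.mem_map_of_mem (Ideal.Quotient.mk I) hx
  rw [h, ← Ideal.mem_comap, Ideal.comap_map_of_surjective' _ Ideal.Quotient.mk_surjective,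
    Ideal.mk_ker] at hx'
  exact hx'

theorem isArtinianRing_quotient_pow {B : Type u} [CommRing B] [IsNoetherianRing B] (m : Ideal B)
    [m.IsMaximal] (n : ℕ) : IsArtinianRing (B ⧸ m ^ n) := by
  have : IsNoetherianRing (B ⧸ m ^ n) :=
    isNoetherianRing_of_surjective B (B ⧸ m ^ n) (Ideal.Quotient.mk _) Ideal.Quotient.mk_surjective
  have : Ring.KrullDimLE 0 (B ⧸ m ^ n) := Ring.krullDimLE_zero_iff.mpr fun P hP => by
    have := hP.comap (Ideal.Quotient.mk (m ^ n))
    have hle : m ≤ P.comap (Ideal.Quotient.mk (m ^ n)) := this.le_of_pow_le (n := n)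
      (fun x hx => by
        rw [Ideal.mem_comap, Ideal.Quotient.eq_zero_iff_mem.2 hx]
        exact P.zero_mem)
    have he := (inferInstance : m.IsMaximal).eq_of_le this.ne_top hle
    have hn : n ≠ 0 := by
      rintro rfl
      refine hP.ne_top ((Ideal.eq_top_iff_one P).2 ?_)
      have h1 : (1 : B ⧸ m ^ 0) = 0 := (map_one (Ideal.Quotient.mk (m ^ 0))).symm.trans
        (Ideal.Quotient.eq_zero_iff_mem.2 (by simp))
      rw [h1]
      exact P.zero_mem
    rw [← Ideal.map_comap_of_surjective _ Ideal.Quotient.mk_surjective P, ← he]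
    exact Ideal.IsMaximal.map_of_surjective_of_ker_le Ideal.Quotient.mk_surjective
      (by rw [Ideal.mk_ker]; exact Ideal.pow_le_self hn)
  exact IsNoetherianRing.isArtinianRing_of_krullDimLE_zero

/-- Chevalley's lemma. -/
theorem chevalley {B : Type u} [CommRing B] [IsNoetherianRing B] (m : Ideal B) [m.IsMaximal]
    [IsAdicComplete m B] (K : ℕ → Ideal B) (hanti : ∀ {p q}, p ≤ q → K q ≤ K p)
    (hpow : ∀ q, ∃ N, m ^ N ≤ K q) (N : ℕ) : ∃ q, K q ≤ (⨅ p, K p) ⊔ m ^ N := by
  have := fun n => isArtinianRing_quotient_pow m n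
  choose Q hQ using fun n => exists_stable (m ^ n) K hanti
  refine ⟨Q N, fun x hx => ?_⟩
  have step : ∀ n y, y ∈ K (Q n) ⊔ m ^ n →
      ∃ z ∈ K (Q (n + 1)) ⊔ m ^ (n + 1), z - y ∈ m ^ n := by
    intro n y hy
    have h : K (Q n) ⊔ m ^ n ≤ K (Q (n + 1)) ⊔ m ^ n := by
      refine sup_le ?_ le_sup_right
      exact (hQ n (max (Q n) (Q (n + 1))) (le_max_left _ _)).trans
        (sup_le_sup_right (hanti (le_max_right _ _)) _)
    obtain ⟨a, ha, b, hb, rfl⟩ := Submodule.mem_sup.1 (h hy)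
    exact ⟨a, Ideal.mem_sup_left ha, by simpa using hb⟩
  choose g hg hg' using step
  let seq : ∀ i : ℕ, {y : B // y ∈ K (Q (N + i)) ⊔ m ^ (N + i)} := fun i =>
    Nat.rec ⟨x, Ideal.mem_sup_left hx⟩ (fun i y => ⟨g _ y.1 y.2, hg _ y.1 y.2⟩) i
  have hs : ∀ i j, i ≤ j → (seq j).1 - (seq i).1 ∈ m ^ (N + i) := by
    intro i j hij
    induction j, hij using Nat.le_induction with
    | base => simp
    | succ j hij ih =>
      have h1 : (seq (j + 1)).1 - (seq j).1 ∈ m ^ (N + i) :=
        Ideal.pow_le_pow_right (by omega) (hg' (N + j) (seq j).1 (seq j).2)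
      simpa using add_mem h1 ih
  obtain ⟨L, hL⟩ := IsPrecomplete.prec' (I := m) (fun i => (seq i).1) fun {i j} hij => by
    rw [SModEq.sub_mem, Ideal.smul_eq_mul, Ideal.mul_top, ← neg_mem_iff, neg_sub]
    exact Ideal.pow_le_pow_right (by omega) (hs i j hij)
  have hL' : ∀ i, (seq i).1 - L ∈ m ^ i := fun i => by
    have := hL i
    rwa [SModEq.sub_mem, Ideal.smul_eq_mul, Ideal.mul_top] at this
  have hLmem : L ∈ ⨅ p, K p := by
    refine (Submodule.mem_iInf _).2 fun p => ?_
    obtain ⟨M, hM⟩ := hpow p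
    have h1 : (seq M).1 ∈ K p := by
      have h2 : K (Q (N + M)) ≤ K p ⊔ m ^ (N + M) :=
        (hQ (N + M) (max (Q (N + M)) p) (le_max_left _ _)).trans
          (sup_le_sup_right (hanti (le_max_right _ _)) _)
      exact (sup_le h2 le_sup_right).trans
        (sup_le le_rfl ((Ideal.pow_le_pow_right (by omega)).trans hM)) (seq M).2
    simpa using sub_mem h1 (hM (hL' M))
  have hdiff : (seq 0).1 - L ∈ m ^ N := by
    have h1 : (seq N).1 - L ∈ m ^ N := hL' N
    have h2 : (seq N).1 - (seq 0).1 ∈ m ^ N := hs 0 N (Nat.zero_le _)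
    simpa using sub_mem h1 h2
  exact Submodule.mem_sup.2 ⟨L, hLmem, x - L, hdiff, by ring⟩

section Completion

variable {S : Type u} [CommRing S]

theorem mem_map_pow_iff (M : Ideal S) (hM : M.FG) (n : ℕ) (x : AdicCompletion M S) :
    x ∈ M.map (algebraMap S (AdicCompletion M S)) ^ n ↔ AdicCompletion.evalₐ M n x = 0 := by
  rw [← Ideal.map_pow, ← Submodule.restrictScalars_mem S, ← Ideal.smul_top_eq_map,
    AdicCompletion.pow_smul_top_eq_ker_eval hM, LinearMap.mem_ker]
  constructor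
  · intro h
    rw [← AdicCompletion.factor_eval_eq_evalₐ M x (Ideal.mul_le_left), h, map_zero]
  · intro h
    rw [← AdicCompletion.factor_evalₐ_eq_eval M x (by simp), h, map_zero]

theorem exists_approx (M : Ideal S) (hM : M.FG) (n : ℕ) (x : AdicCompletion M S) :
    ∃ s : S, x - algebraMap S (AdicCompletion M S) s ∈ M.map (algebraMap S (AdicCompletion M S)) ^ n := by
  obtain ⟨s, hs⟩ := Ideal.Quotient.mk_surjective (AdicCompletion.evalₐ M n x)
  exact ⟨s, (mem_map_pow_iff M hM n _).2 (by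
    rw [map_sub, AlgHom.commutes, Ideal.Quotient.algebraMap_eq, hs, sub_self])⟩

end Completion

variable {Λ : Type u} {k : Type u} [CommRing Λ] [Field k] [Algebra Λ k]
variable {S : Type u} [CommRing S] [Algebra Λ S] [IsNoetherianRing S]
variable (res : S →ₐ[Λ] k) (hres : Function.Surjective res)

/-- A decreasing sequence of near ideals is presented by a complete Noetherian local ring, through
whose finite levels every map to an Artinian object factors. -/
theorem exists_ring (J : ℕ → Ideal S) (hJ : ∀ q, IsNear res (J q))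
    (hanti : ∀ {p q}, p ≤ q → J q ≤ J p) :
    ∃ (R : CRing Λ k) (π : ∀ q, R.carrier →ₐ[Λ] qobj res hres (J q) (hJ q)),
      (∀ q, (qobj res hres (J q) (hJ q)).res.comp (π q) = R.res) ∧
      (∀ p q (h : p ≤ q), (qTrans res hres (hJ q) (hJ p) (hanti h)).toAlgHom.comp (π q) = π p) ∧
      (∀ q, Function.Surjective (π q)) ∧
      ∀ (A : Art Λ k) (φ : HomSet R.carrier R.res A), ∃ q, RingHom.ker (π q) ≤ RingHom.ker φ.1 := by
  set M := RingHom.ker res with hMdef
  have hMmax : M.IsMaximal := ker_isMaximal res hres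
  have hfg : M.FG := IsNoetherian.noetherian M
  let B := AdicCompletion M S
  let m : Ideal B := M.map (algebraMap S B)
  have hm : m.IsMaximal := AdicCompletion.isMaximal_map_of_le M M le_rfl hfg
  have hc : IsAdicComplete m B := AdicCompletion.isAdicComplete_self M hfg
  have : IsLocalRing B := isLocalRing_of_isAdicComplete_maximal m
  have : IsNoetherianRing B := by
    let := Ideal.Quotient.field m
    exact LocalCrit.isNoetherianRing_of_isAdicComplete m (hfg.map _)
  choose N hN using fun q => (hJ q).pow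
  let ρ : ∀ q, B →ₐ[Λ] qobj res hres (J q) (hJ q) := fun q =>
    (Ideal.Quotient.factorₐ Λ (hN q)).comp ((AdicCompletion.evalₐ M (N q)).restrictScalars Λ)
  have hρalg : ∀ q s, ρ q (algebraMap S B s) = qmk res hres (J q) (hJ q) s := fun q s => by
    change Ideal.Quotient.factorₐ Λ (hN q) (AdicCompletion.evalₐ M (N q) (algebraMap S B s)) = _
    rw [AlgHom.commutes]
    rfl
  have hρpow : ∀ q x, x ∈ m ^ N q → ρ q x = 0 := fun q x hx => by
    change Ideal.Quotient.factorₐ Λ (hN q) (AdicCompletion.evalₐ M (N q) x) = _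
    rw [(mem_map_pow_iff M hfg _ x).1 hx, map_zero]
    rfl
  have hρeq : ∀ q n x s, N q ≤ n → x - algebraMap S B s ∈ m ^ n →
      ρ q x = qmk res hres (J q) (hJ q) s := fun q n x s hn hx => by
    rw [← hρalg, ← sub_eq_zero, ← map_sub]
    exact hρpow q _ (Ideal.pow_le_pow_right hn hx)
  have hρtrans : ∀ p q (h : p ≤ q) x,
      qTrans res hres (hJ q) (hJ p) (hanti h) (ρ q x) = ρ p x := by
    intro p q h x
    obtain ⟨s, hs⟩ := exists_approx M hfg (max (N p) (N q)) x
    rw [hρeq q _ x s (le_max_right _ _) hs, hρeq p _ x s (le_max_left _ _) hs, qTrans_qmk]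
  have hρsurj : ∀ q, Function.Surjective (ρ q) := fun q y =>
    (qmk_surjective res hres _ _ y).elim fun s hs => ⟨algebraMap S B s, (hρalg q s).trans hs⟩
  let resB : B →ₐ[Λ] k := (qobj res hres (J 0) (hJ 0)).res.comp (ρ 0)
  have hresB : Function.Surjective resB :=
    (qobj res hres (J 0) (hJ 0)).res_surjective.comp (hρsurj 0)
  have hkerB : RingHom.ker resB = IsLocalRing.maximalIdeal B :=
    IsLocalRing.eq_maximalIdeal (RingHom.ker_isMaximal_of_surjective (resB : B →+* k) hresB)
  have hmB : m = IsLocalRing.maximalIdeal B := IsLocalRing.eq_maximalIdeal hm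
  let K : Ideal B := ⨅ q, RingHom.ker (ρ q)
  have hKle : ∀ q, K ≤ RingHom.ker (ρ q) := fun q => iInf_le _ q
  have hKres : ∀ x ∈ K, resB x = 0 := fun x hx => by
    change (qobj res hres (J 0) (hJ 0)).res (ρ 0 x) = 0
    rw [RingHom.mem_ker.1 (hKle 0 hx), map_zero]
  have : Nontrivial (B ⧸ K) := by
    refine Ideal.Quotient.nontrivial_iff.2 fun h => one_ne_zero (α := k) ?_
    rw [← map_one resB]
    exact hKres 1 (h ▸ Submodule.mem_top)
  have : IsLocalRing (B ⧸ K) :=
    IsLocalRing.of_surjective' (Ideal.Quotient.mk K) Ideal.Quotient.mk_surjective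
  have : IsNoetherianRing (B ⧸ K) :=
    isNoetherianRing_of_surjective B (B ⧸ K) (Ideal.Quotient.mk K) Ideal.Quotient.mk_surjective
  have hmR : IsLocalRing.maximalIdeal (B ⧸ K) = m.map (algebraMap B (B ⧸ K)) := by
    symm
    refine IsLocalRing.eq_maximalIdeal ?_
    refine Ideal.IsMaximal.map_of_surjective_of_ker_le Ideal.Quotient.mk_surjective ?_
    rw [Ideal.mk_ker, hmB, ← hkerB]
    exact hKres
  have hRc : IsAdicComplete (IsLocalRing.maximalIdeal (B ⧸ K)) (B ⧸ K) := by
    rw [hmR, IsAdicComplete.map_algebraMap_iff]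
    exact AdicLib.isAdicComplete_of_finite m (B ⧸ K)
  let R : CRing Λ k :=
    { carrier := B ⧸ K
      res := Ideal.Quotient.liftₐ K resB hKres
      res_surjective := fun c => (hresB c).elim fun b hb => ⟨Ideal.Quotient.mk K b, hb⟩
      isAdicComplete := hRc }
  let π : ∀ q, R.carrier →ₐ[Λ] qobj res hres (J q) (hJ q) := fun q =>
    Ideal.Quotient.liftₐ K (ρ q) fun x hx => hKle q hx
  have hπmk : ∀ q x, π q (Ideal.Quotient.mk K x) = ρ q x := fun q x => rfl
  refine ⟨R, π, fun q => ?_, fun p q h => ?_, fun q y => ?_, fun A φ => ?_⟩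
  · refine AlgHom.ext fun y => ?_
    obtain ⟨x, rfl⟩ := Ideal.Quotient.mk_surjective y
    change (qobj res hres (J q) (hJ q)).res (ρ q x) = (qobj res hres (J 0) (hJ 0)).res (ρ 0 x)
    rw [← hρtrans 0 q (Nat.zero_le q) x, res_app]
  · refine AlgHom.ext fun y => ?_
    obtain ⟨x, rfl⟩ := Ideal.Quotient.mk_surjective y
    exact hρtrans p q h x
  · exact (hρsurj q y).elim fun x hx => ⟨Ideal.Quotient.mk K x, hx⟩
  · obtain ⟨n, hn⟩ : IsNilpotent (IsLocalRing.maximalIdeal A) :=
      (isArtinianRing_iff_isNilpotent_maximalIdeal A).1 inferInstance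
    let ψ : B →ₐ[Λ] A := φ.1.comp (Ideal.Quotient.mkₐ Λ K)
    have hψm : m ^ n ≤ RingHom.ker ψ := by
      have hle : m.map ψ ≤ IsLocalRing.maximalIdeal A := Ideal.map_le_iff_le_comap.2 fun x hx => by
        rw [Ideal.mem_comap, mem_maximalIdeal_iff]
        have h1 : A.res (φ.1 (Ideal.Quotient.mk K x)) = resB x :=
          DFunLike.congr_fun φ.2 (Ideal.Quotient.mk K x)
        refine h1.trans ?_
        rw [← RingHom.mem_ker, hkerB, ← hmB]
        exact hx
      intro x hx
      have := Ideal.pow_right_mono hle n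
      rw [← Ideal.map_pow, hn] at this
      exact Ideal.mem_bot.1 (this (Ideal.mem_map_of_mem _ hx))
    obtain ⟨q, hq⟩ := chevalley m (fun q => RingHom.ker (ρ q))
      (fun {p q} h x hx => by
        rw [RingHom.mem_ker] at hx ⊢
        rw [← hρtrans p q h, hx, map_zero])
      (fun q => ⟨N q, fun x hx => RingHom.mem_ker.2 (hρpow q x hx)⟩) n
    refine ⟨q, fun y hy => ?_⟩
    obtain ⟨x, rfl⟩ := Ideal.Quotient.mk_surjective y
    obtain ⟨a, ha, b, hb, rfl⟩ := Submodule.mem_sup.1 (hq (RingHom.mem_ker.2 ((hπmk q x).symm.trans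
      (RingHom.mem_ker.1 hy))))
    rw [RingHom.mem_ker, map_add, Ideal.Quotient.eq_zero_iff_mem.2 ha, zero_add]
    exact RingHom.mem_ker.1 (hψm hb)

end Groth.Agent.ArtFunLib.Hull
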