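import Groth.Agent.ArtFunLib.Hull.Ring

/-! Construction of versal families and hulls from a seed. -/

universe u v

open CategoryTheory ArtFun ArtFun.Art

namespace Groth.Agent.ArtFunLib.Hull

variable {Λ : Type u} {k : Type u} [CommRing Λ] [Field k] [Algebra Λ k]
variable {S : Type u} [CommRing S] [Algebra Λ S] [IsNoetherianRing S]
variable (res : S →ₐ[Λ] k) (hres : Function.Surjective res) (F : Art Λ k ⥤ Type v)

/-- An element of `F` on a finite level. -/
structure Level where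
  /-- The ideal. -/
  ideal : Ideal S
  near : IsNear res ideal
  /-- The element. -/
  elt : F.obj (qobj res hres ideal near)

variable {res hres F}

/-- The element of a level lifts to the quotient by `J`. -/
def Lifts (L : Level res hres F) (J : Ideal S) : Prop :=
  ∃ (hJ : IsNear res J) (h : J ≤ L.ideal), RingHom.ker res * L.ideal ≤ J ∧
    ∃ x, F.map (qTrans res hres hJ L.near h) x = L.elt

theorem lifts_self (L : Level res hres F) : Lifts L L.ideal :=
  ⟨L.near, le_rfl, Ideal.mul_le_right, L.elt, by rw [qTrans_refl, map_id']⟩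

variable [IsNoetherianRing Λ] [Module.Finite Λ k]

omit [IsNoetherianRing Λ] [Module.Finite Λ k] in
theorem lifts_inf (h1 : S1 F) (L : Level res hres F) {I J : Ideal S} (hI : Lifts L I) (hJ : Lifts L J) :
    Lifts L (I ⊓ J) := by
  obtain ⟨hIn, hIL, hIM, x, hx⟩ := hI
  obtain ⟨hJn, hJL, hJM, y, hy⟩ := hJ
  obtain ⟨J', ⟨hJJ', hJ'L, hJ'inf⟩, hmax⟩ := set_has_maximal_iff_noetherian.mpr
    (inferInstance : IsNoetherianRing S) {J' | J ≤ J' ∧ J' ≤ L.ideal ∧ I ⊓ J' ≤ J}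
    ⟨J, le_rfl, hJL, inf_le_right⟩
  have hJ'n : IsNear res J' := hJn.of_between L.near hJJ' hJ'L
  have hsup : L.ideal ≤ I ⊔ J' := by
    intro s hs
    by_contra hs'
    have hlt : J' < J' ⊔ Ideal.span {s} := lt_of_le_of_ne le_sup_left fun h => hs'
      (Ideal.mem_sup_right (h ▸ Ideal.mem_sup_right (Ideal.mem_span_singleton_self s)))
    refine hmax _ ⟨hJJ'.trans le_sup_left, sup_le hJ'L ((Ideal.span_singleton_le_iff_mem _).2 hs),
      fun z hz => ?_⟩ hlt
    obtain ⟨hzI, hz'⟩ := hz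
    obtain ⟨j, hj, w, hw, rfl⟩ := Submodule.mem_sup.1 hz'
    obtain ⟨a, rfl⟩ := Ideal.mem_span_singleton'.1 hw
    by_cases ha : res a = 0
    · exact hJ'inf ⟨hzI, add_mem hj (hJJ' (hJM (Ideal.mul_mem_mul ha hs)))⟩
    · obtain ⟨t, ht⟩ := hres (res a)⁻¹
      refine absurd ?_ hs'
      have hm : t * a - 1 ∈ RingHom.ker res := by
        rw [RingHom.mem_ker, map_sub, map_mul, ht, map_one, inv_mul_cancel₀ ha, sub_self]
      have h3 : t * a * s ∈ I ⊔ J' := by
        have h4 := sub_mem (Ideal.mem_sup_left (T := J') (Ideal.mul_mem_left I t hzI))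
          (Ideal.mem_sup_right (S := I) (Ideal.mul_mem_left J' t hj))
        convert h4 using 1
        ring
      have h5 : (t * a - 1) * s ∈ I ⊔ J' := Ideal.mem_sup_left (hIM (Ideal.mul_mem_mul hm hs))
      convert sub_mem h3 h5 using 1
      ring
  obtain ⟨y', hy'⟩ : ∃ y', F.map (qTrans res hres hJ'n L.near hJ'L) y' = L.elt :=
    ⟨F.map (qTrans res hres hJn hJ'n hJJ') y, by rw [← map_comp', qTrans_comp, hy]⟩
  have hinf : I ⊓ J = I ⊓ J' :=
    le_antisymm (inf_le_inf_left I hJJ') (le_inf inf_le_left hJ'inf)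
  rw [hinf]
  obtain ⟨z, hz, -⟩ := exists_of_cmp_surjective (h1 _ _ _ _
    (isFibreProd_inf res hres hIn hJ'n L.near hIL hJ'L hsup) (qTrans_surjective res hres hJ'n L.near hJ'L))
    x y' (hx.trans hy'.symm)
  exact ⟨hIn.inf hJ'n, inf_le_left.trans hIL, le_inf hIM (hJM.trans hJJ'), z,
    by rw [← qTrans_comp res hres (hIn.inf hJ'n) hIn L.near inf_le_left hIL, map_comp', hz, hx]⟩

omit [IsNoetherianRing Λ] [Module.Finite Λ k] in
omit [Algebra Λ S] [IsNoetherianRing S] in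
theorem exists_least (P : Ideal S) [IsArtinianRing (S ⧸ P)] (T : Ideal S → Prop)
    (hP : ∀ I, T I → P ≤ I) (hne : ∃ I, T I) (hinf : ∀ I J, T I → T J → T (I ⊓ J)) :
    ∃ I, T I ∧ ∀ J, T J → I ≤ J := by
  obtain ⟨I₀, hI₀, hmin⟩ := IsArtinian.set_has_minimal (R := S ⧸ P) (M := S ⧸ P)
    (Ideal.map (Ideal.Quotient.mk P) '' {I | T I}) (hne.elim fun I hI => ⟨_, I, hI, rfl⟩)
  obtain ⟨I, hI, rfl⟩ := hI₀
  have hcm : ∀ K : Ideal S, T K → (K.map (Ideal.Quotient.mk P)).comap (Ideal.Quotient.mk P) = K :=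
    fun K hK => by
      rw [Ideal.comap_map_of_surjective' _ Ideal.Quotient.mk_surjective, Ideal.mk_ker,
        sup_of_le_left (hP K hK)]
  refine ⟨I, hI, fun J hJ => ?_⟩
  have hT := hinf I J hI hJ
  rcases (Ideal.map_mono (f := Ideal.Quotient.mk P) (inf_le_left : I ⊓ J ≤ I)).lt_or_eq with hlt | heq
  · exact absurd hlt (hmin _ ⟨_, hT, rfl⟩)
  · rw [← hcm I hI, ← heq, hcm _ hT]
    exact inf_le_right

theorem exists_next (h1 : S1 F) (L : Level res hres F) :
    ∃ (L' : Level res hres F) (h : L'.ideal ≤ L.ideal),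
      F.map (qTrans res hres L'.near L.near h) L'.elt = L.elt ∧
      ∀ J, Lifts L J → L'.ideal ≤ J := by
  have : IsArtinianRing (S ⧸ RingHom.ker res * L.ideal) :=
    isArtinianRing_quotient hres L.near.mul
  obtain ⟨I, hI, hmin⟩ := exists_least (RingHom.ker res * L.ideal) (Lifts L)
    (fun I hI => hI.elim fun _ h => h.elim fun _ h => h.1) ⟨L.ideal, lifts_self L⟩
    fun I J hI hJ => lifts_inf h1 L hI hJ
  obtain ⟨hn, hle, -, x, hx⟩ := hI
  exact ⟨⟨I, hn, x⟩, hle, hx, hmin⟩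

omit [IsNoetherianRing Λ] [Module.Finite Λ k] in
theorem exists_factor {R : Type u} [CommRing R] [Algebra Λ R] {resR : R →ₐ[Λ] k} {J : Ideal S}
    {hJ : IsNear res J} (π : R →ₐ[Λ] qobj res hres J hJ) (hπ : Function.Surjective π)
    (hπr : (qobj res hres J hJ).res.comp π = resR) {A : Art Λ k} (φ : HomSet R resR A)
    (h : RingHom.ker π ≤ RingHom.ker φ.1) :
    ∃ g : qobj res hres J hJ ⟶ A, g.toAlgHom.comp π = φ.1 := by
  refine ⟨⟨AlgHom.liftOfSurjective π hπ φ.1 h, ?_⟩, ?_⟩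
  · refine AlgHom.ext fun y => ?_
    obtain ⟨x, rfl⟩ := hπ y
    refine (congrArg A.res (AlgHom.liftOfSurjective_apply π hπ φ.1 h x)).trans ?_
    exact (DFunLike.congr_fun φ.2 x).trans (DFunLike.congr_fun hπr x).symm
  · exact AlgHom.ext fun x => AlgHom.liftOfSurjective_apply π hπ φ.1 h x

theorem exists_extend (h1 : Hbar F) {J : Ideal S} {hJ : IsNear res J}
    (hlift : ∀ ⦃B A : Art Λ k⦄ (p : B ⟶ A), IsSmallExt p → ∀ φ : S →ₐ[Λ] A,
      A.res.comp φ = res → ∃ ψ : S →ₐ[Λ] B, p.toAlgHom.comp ψ = φ)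
    {x : F.obj (qobj res hres J hJ)} (L' : Level res hres F) (hle : L'.ideal ≤ J)
    (hmin : ∀ I, Lifts ⟨J, hJ, x⟩ I → L'.ideal ≤ I)
    {B A : Art Λ k} (μ : B ⟶ A) (hμ : IsSmallExt μ) (g : qobj res hres J hJ ⟶ A)
    (y : F.obj B) (e : F.map g x = F.map μ y) :
    ∃ g' : qobj res hres L'.ideal L'.near ⟶ B, g' ≫ μ = qTrans res hres L'.near hJ hle ≫ g := by
  obtain ⟨P, p₁, p₂, hP⟩ := exists_isFibreProd g μ hμ.1
  have hp : IsSmallExt p₁ := isSmallExt_fst hP hμ
  obtain ⟨z, hz₁, -⟩ := exists_of_cmp_surjective (h1 p₁ p₂ g μ hP hμ) x y e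
  obtain ⟨w, hw⟩ := hlift p₁ hp (qmk res hres J hJ) (AlgHom.ext fun _ => rfl)
  have hw' : ∀ s, p₁ (w s) = qmk res hres J hJ s := fun s => DFunLike.congr_fun hw s
  have hwres : P.res.comp w = res := AlgHom.ext fun s => by
    rw [AlgHom.comp_apply, ← res_app p₁, hw', res_qmk]
  by_cases hK : J ≤ RingHom.ker w
  · refine ⟨qTrans res hres L'.near hJ hle ≫ qlift res hres hJ w hwres hK ≫ p₂, ?_⟩
    have hs : qlift res hres hJ w hwres hK ≫ p₁ = 𝟙 _ := qobj_hom_ext res hres fun s => hw' s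
    rw [Category.assoc, Category.assoc, ← hP.w, ← Category.assoc (qlift res hres hJ w hwres hK), hs,
      Category.id_comp]
  · obtain ⟨s₀, hs₀, hs₀'⟩ := SetLike.not_le_iff_exists.1 hK
    rw [RingHom.mem_ker] at hs₀'
    obtain ⟨t, ht⟩ := hp.2.2.1
    rw [Ideal.submodule_span_eq] at ht
    have hkill : ∀ c b : P, P.res c = 0 → p₁ b = 0 → c * b = 0 := fun c b hc hb => by
      have := Ideal.mul_mem_mul ((mem_maximalIdeal_iff P c).2 hc) ((mem_ker_iff p₁ b).2 hb)
      rwa [hp.2.2.2, Ideal.mem_bot] at this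
    have hws : p₁ (w s₀) = 0 := by rw [hw']; exact (qmk_eq_zero res hres hJ s₀).2 hs₀
    obtain ⟨r, hr⟩ := Ideal.mem_span_singleton'.1 (ht ▸ (mem_ker_iff p₁ _).2 hws)
    have htk : p₁ t = 0 := (mem_ker_iff p₁ t).1 (ht ▸ Ideal.mem_span_singleton_self t)
    have hrne : P.res r ≠ 0 := fun hr0 => hs₀' (by rw [← hr]; exact hkill r t hr0 htk)
    have hwsurj : Function.Surjective w := by
      intro a
      obtain ⟨s₁, hs₁⟩ := qmk_surjective res hres J hJ (p₁ a)
      obtain ⟨r', hr'⟩ : ∃ r', r' * t = a - w s₁ := Ideal.mem_span_singleton'.1 (ht ▸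
        (mem_ker_iff p₁ _).2 (by rw [map_sub, hw', hs₁, sub_self]))
      obtain ⟨s₂, hs₂⟩ := hres (P.res r' / P.res r)
      refine ⟨s₁ + s₂ * s₀, ?_⟩
      have h0' : (w s₂ * r - r') * t = 0 := hkill _ _ (by
        rw [map_sub, map_mul, ← AlgHom.comp_apply, hwres, hs₂, div_mul_cancel₀ _ hrne, sub_self])
        htk
      rw [map_add, map_mul, ← hr]
      linear_combination h0' + hr'
    have hKn := isNear_ker res w hwres
    have hKJ : RingHom.ker w ≤ J := fun s hs => (qmk_eq_zero res hres hJ s).1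
      (by rw [← hw', RingHom.mem_ker.1 hs, map_zero])
    have hMJ : RingHom.ker res * J ≤ RingHom.ker w := Ideal.mul_le.2 fun c hc b hb => by
      rw [RingHom.mem_ker, map_mul]
      refine hkill _ _ ?_ (by rw [hw']; exact (qmk_eq_zero res hres hJ b).2 hb)
      rw [← AlgHom.comp_apply, hwres]
      exact hc
    let ε := qlift res hres hKn w hwres le_rfl
    have : IsIso ε := isIso_of_bijective ε ⟨(injective_iff_map_eq_zero ε.toAlgHom).2 fun a ha => by
      obtain ⟨s, rfl⟩ := qmk_surjective res hres _ hKn a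
      exact (qmk_eq_zero res hres hKn s).2 (RingHom.mem_ker.2 ha), fun a =>
        (hwsurj a).elim fun s hs => ⟨qmk res hres _ hKn s, hs⟩⟩
    have hε : ε ≫ p₁ = qTrans res hres hKn hJ hKJ := qobj_hom_ext res hres fun s => hw' s
    have hIle : L'.ideal ≤ RingHom.ker w := hmin _ ⟨hKn, hKJ, hMJ, F.map (inv ε) z, by
      rw [← map_comp', ← hε, ← Category.assoc, IsIso.inv_hom_id, Category.id_comp, hz₁]⟩
    refine ⟨qTrans res hres L'.near hKn hIle ≫ ε ≫ p₂, ?_⟩
    rw [Category.assoc, Category.assoc, ← hP.w, ← Category.assoc ε, hε, ← Category.assoc,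
      qTrans_comp]

omit [IsNoetherianRing Λ] [Module.Finite Λ k] in
theorem exists_limit_family (lev : ℕ → Level res hres F)
    (hanti : ∀ {p q}, p ≤ q → (lev q).ideal ≤ (lev p).ideal)
    (helt : ∀ p q (h : p ≤ q),
      F.map (qTrans res hres (lev q).near (lev p).near (hanti h)) (lev q).elt = (lev p).elt) :
    ∃ (R : CRing Λ k) (π : ∀ q, R.carrier →ₐ[Λ] qobj res hres (lev q).ideal (lev q).near)
      (ξ : Family R.carrier R.res F),
      (∀ q, (qobj res hres (lev q).ideal (lev q).near).res.comp (π q) = R.res) ∧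
      (∀ p q (h : p ≤ q),
        (qTrans res hres (lev q).near (lev p).near (hanti h)).toAlgHom.comp (π q) = π p) ∧
      (∀ (A : Art Λ k) (φ : HomSet R.carrier R.res A), ∃ (q : ℕ)
        (g : qobj res hres (lev q).ideal (lev q).near ⟶ A), g.toAlgHom.comp (π q) = φ.1) ∧
      ∀ (A : Art Λ k) (φ : HomSet R.carrier R.res A) (q : ℕ)
        (g : qobj res hres (lev q).ideal (lev q).near ⟶ A),
        g.toAlgHom.comp (π q) = φ.1 → ξ.app A φ = F.map g (lev q).elt := by
  obtain ⟨R, π, hπr, hπt, hπs, hπf⟩ :=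
    exists_ring res hres (fun q => (lev q).ideal) (fun q => (lev q).near) hanti
  have hfac : ∀ (A : Art Λ k) (φ : HomSet R.carrier R.res A),
      ∃ (q : ℕ) (g : qobj res hres (lev q).ideal (lev q).near ⟶ A), g.toAlgHom.comp (π q) = φ.1 :=
    fun A φ => (hπf A φ).elim fun q hq => ⟨q, exists_factor (π q) (hπs q) (hπr q) φ hq⟩
  choose Q G hG using hfac
  let app : ∀ A, HomSet R.carrier R.res A → F.obj A := fun A φ => F.map (G A φ) (lev (Q A φ)).elt
  have hwd : ∀ (A : Art Λ k) (φ : HomSet R.carrier R.res A) (q : ℕ)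
      (g : qobj res hres (lev q).ideal (lev q).near ⟶ A),
      g.toAlgHom.comp (π q) = φ.1 → app A φ = F.map g (lev q).elt := by
    intro A φ q g hg
    obtain ⟨n, h₁, h₂⟩ : ∃ n, Q A φ ≤ n ∧ q ≤ n := ⟨_, le_max_left _ _, le_max_right _ _⟩
    have he : qTrans res hres (lev n).near (lev _).near (hanti h₁) ≫ G A φ =
        qTrans res hres (lev n).near (lev _).near (hanti h₂) ≫ g := hom_apply_ext fun a => by
      obtain ⟨r, rfl⟩ := hπs n a
      have e₁ := DFunLike.congr_fun (hπt _ _ h₁) r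
      have e₂ := DFunLike.congr_fun (hπt _ _ h₂) r
      exact ((congrArg (G A φ).toAlgHom e₁).trans (DFunLike.congr_fun (hG A φ) r)).trans
        ((congrArg g.toAlgHom e₂).trans (DFunLike.congr_fun hg r)).symm
    change F.map (G A φ) (lev (Q A φ)).elt = _
    rw [← helt _ _ h₁, ← helt _ _ h₂, ← map_comp', ← map_comp', he]
  refine ⟨R, π, ⟨app, fun {A B} f φ => ?_⟩, hπr, hπt, fun A φ => ⟨_, _, hG A φ⟩, hwd⟩
  rw [hwd B (HomSet.map f φ) (Q A φ) (G A φ ≫ f)
    ((AlgHom.comp_assoc _ _ _).trans (congrArg f.toAlgHom.comp (hG A φ))), map_comp']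

theorem exists_levels (h1 : S1 F) (L₀ : Level res hres F) :
    ∃ (lev : ℕ → Level res hres F) (hanti : ∀ {p q}, p ≤ q → (lev q).ideal ≤ (lev p).ideal),
      lev 0 = L₀ ∧ (∀ p q (h : p ≤ q),
        F.map (qTrans res hres (lev q).near (lev p).near (hanti h)) (lev q).elt = (lev p).elt) ∧
      ∀ q J, Lifts (lev q) J → (lev (q + 1)).ideal ≤ J := by
  choose next hnle hnelt hnmin using fun L : Level res hres F => exists_next h1 L
  let lev : ℕ → Level res hres F := fun q => Nat.rec L₀ (fun _ L => next L) q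
  have hanti : ∀ {p q}, p ≤ q → (lev q).ideal ≤ (lev p).ideal := by
    intro p q h
    induction q, h using Nat.le_induction with
    | base => exact le_rfl
    | succ q _ ih => exact (hnle (lev q)).trans ih
  refine ⟨lev, hanti, rfl, fun p q h => ?_, fun q => hnmin (lev q)⟩
  induction q, h using Nat.le_induction with
  | base => rw [qTrans_refl, map_id']
  | succ q h ih =>
    rw [← qTrans_comp res hres (lev (q + 1)).near (lev q).near (lev p).near (hnle (lev q)) (hanti h),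
      map_comp', show F.map (qTrans res hres (lev (q + 1)).near (lev q).near (hnle (lev q)))
        (lev (q + 1)).elt = (lev q).elt from hnelt (lev q), ih]

omit [IsNoetherianRing Λ] [Module.Finite Λ k] in
theorem exists_first_factor {J₀ J : Ideal S} {hJ₀ : IsNear res J₀} {hJ : IsNear res J} (h : J ≤ J₀)
    {A : Art Λ k} (g : qobj res hres J hJ ⟶ A)
    (hker : ∀ φ : S →ₐ[Λ] A, A.res.comp φ = res → J₀ ≤ RingHom.ker φ) :
    ∃ l : qobj res hres J₀ hJ₀ ⟶ A, qTrans res hres hJ hJ₀ h ≫ l = g := by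
  have hc : A.res.comp (g.toAlgHom.comp (qmk res hres J hJ)) = res := by
    rw [← AlgHom.comp_assoc, g.res_comp]
    rfl
  exact ⟨qlift res hres hJ₀ _ hc (hker _ hc), qobj_hom_ext res hres fun _ => rfl⟩

/-- A versal family whose tangent map is computed by a seed `x₀` on a first level. -/
theorem exists_family (h0 : H0 F) (h1 : Hbar F) (h2 : Heps F)
    (hlift : ∀ ⦃B A : Art Λ k⦄ (p : B ⟶ A), IsSmallExt p → ∀ φ : S →ₐ[Λ] A,
      A.res.comp φ = res → ∃ ψ : S →ₐ[Λ] B, p.toAlgHom.comp ψ = φ)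
    {J₀ : Ideal S} {hJ₀ : IsNear res J₀} (x₀ : F.obj (qobj res hres J₀ hJ₀))
    (hsurj : Function.Surjective fun l : qobj res hres J₀ hJ₀ ⟶ dual Λ k => F.map l x₀) :
    ∃ (R : CRing Λ k) (ξ : Family R.carrier R.res F), IsVersal ξ ∧
      ((∀ φ : S →ₐ[Λ] dual Λ k, (dual Λ k).res.comp φ = res → J₀ ≤ RingHom.ker φ) →
        Function.Injective (fun l : qobj res hres J₀ hJ₀ ⟶ dual Λ k => F.map l x₀) →
        IsMiniversal ξ) := by
  obtain ⟨lev, hanti, hlev, helt, hnmin⟩ := exists_levels (s1_of_hbar h1) ⟨J₀, hJ₀, x₀⟩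
  obtain ⟨R, π, ξ, hπr, hπt, hfac, hwd⟩ := exists_limit_family lev hanti helt
  have hpt : ∀ {A : Art Λ k} (q : ℕ) (g : qobj res hres (lev q).ideal (lev q).near ⟶ A),
      A.res.comp (g.toAlgHom.comp (π q)) = R.res := fun q g => by
    rw [← AlgHom.comp_assoc, g.res_comp, hπr q]
  obtain ⟨i, hi, hix⟩ : ∃ i : qobj res hres (lev 0).ideal (lev 0).near ⟶ qobj res hres J₀ hJ₀,
      Function.Bijective i ∧ F.map i (lev 0).elt = x₀ := by
    rw [hlev]
    exact ⟨𝟙 _, Function.bijective_id, map_id' F x₀⟩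
  have : IsIso i := isIso_of_bijective i hi
  have hds : Function.Surjective (ξ.app (dual Λ k)) := fun t => by
    obtain ⟨l, hl⟩ := hsurj t
    refine ⟨⟨(i ≫ l).toAlgHom.comp (π 0), hpt 0 _⟩, (hwd _ _ 0 (i ≫ l) rfl).trans ?_⟩
    rw [map_comp', hix]
    exact hl
  have hv : IsVersal ξ := by
    refine (isVersal_iff_tangent ξ h0 h1 h2).2 ⟨hds, fun B A μ hμ φ y e => ?_⟩
    obtain ⟨q, g, hg⟩ := hfac A φ
    obtain ⟨g', hg'⟩ := exists_extend h1 hlift (lev (q + 1)) (hanti (Nat.le_succ q))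
      (hnmin q) μ hμ g y ((hwd A φ q g hg).symm.trans e.symm)
    refine ⟨⟨g'.toAlgHom.comp (π (q + 1)), hpt _ g'⟩, Subtype.ext ?_⟩
    change μ.toAlgHom.comp (g'.toAlgHom.comp (π (q + 1))) = φ.1
    rw [← AlgHom.comp_assoc, ← comp_toAlgHom, hg', comp_toAlgHom, AlgHom.comp_assoc,
      hπt q (q + 1) (Nat.le_succ q), hg]
  refine ⟨R, ξ, hv, fun hker hinj => ⟨hv, fun φ₁ φ₂ e => ?_, hds⟩⟩
  have key : ∀ φ : HomSet R.carrier R.res (dual Λ k), ∃ l : qobj res hres J₀ hJ₀ ⟶ dual Λ k,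
      (i ≫ l).toAlgHom.comp (π 0) = φ.1 := fun φ => by
    obtain ⟨q, g, hg⟩ := hfac _ φ
    obtain ⟨l, hl⟩ := exists_first_factor (hJ₀ := (lev 0).near) (hanti (Nat.zero_le q)) g
      (fun ψ hψ => by rw [hlev]; exact hker ψ hψ)
    refine ⟨inv i ≫ l, ?_⟩
    rw [← Category.assoc, IsIso.hom_inv_id, Category.id_comp, ← hπt 0 q (Nat.zero_le q),
      ← AlgHom.comp_assoc, ← comp_toAlgHom, hl, hg]
  obtain ⟨l₁, hl₁⟩ := key φ₁
  obtain ⟨l₂, hl₂⟩ := key φ₂
  have : l₁ = l₂ := hinj (by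
    change F.map l₁ x₀ = F.map l₂ x₀
    rw [← hix, ← map_comp', ← map_comp', ← hwd _ φ₁ 0 _ hl₁, ← hwd _ φ₂ 0 _ hl₂, e])
  exact Subtype.ext (by rw [← hl₁, ← hl₂, this])

end Groth.Agent.ArtFunLib.Hull
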