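import Groth.Agent.ArtFunLib.Hull.Prorep
import Mathlib.LinearAlgebra.Basis.VectorSpace

/-! Schlessinger's theorem for a finite residue extension. -/

universe u v

open CategoryTheory ArtFun ArtFun.Art

namespace Groth.Agent.ArtFunLib.Hull

variable {Λ : Type u} {k : Type u} [CommRing Λ] [Field k] [Algebra Λ k]

section First

variable {m n : ℕ} (c : Fin m → k)

/-- The point of polynomial space. -/
def pt : Fin m ⊕ Fin n → k := Sum.elim c 0

/-- The universal first order map at the point. -/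
noncomputable def first : MvPolynomial (Fin m ⊕ Fin n) Λ →ₐ[Λ] TrivSqZeroExt k (Fin m ⊕ Fin n → k) :=
  MvPolynomial.aeval fun i => TrivSqZeroExt.inl (pt c i) + TrivSqZeroExt.inr (Pi.single i 1)

/-- The seed map. -/
noncomputable def seed : MvPolynomial (Fin m ⊕ Fin n) Λ →ₐ[Λ] TrivSqZeroExt k (Fin n → k) :=
  (tszeMap (LinearMap.funLeft k k Sum.inr)).comp (first c)

theorem first_X (i : Fin m ⊕ Fin n) :
    first (Λ := Λ) c (MvPolynomial.X i) =
      TrivSqZeroExt.inl (pt c i) + TrivSqZeroExt.inr (Pi.single i (1 : k)) :=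
  MvPolynomial.aeval_X _ i

theorem seed_X_inl (i : Fin m) :
    seed (Λ := Λ) (n := n) c (MvPolynomial.X (Sum.inl i)) = TrivSqZeroExt.inl (c i) := by
  rw [seed, AlgHom.comp_apply, first_X]
  refine TrivSqZeroExt.ext ?_ ?_
  · simp [pt]
  · funext j
    simp [LinearMap.funLeft_apply, Pi.single_apply]

theorem seed_X_inr (i : Fin n) :
    seed (Λ := Λ) c (MvPolynomial.X (Sum.inr i)) = TrivSqZeroExt.inr (Pi.single i 1) := by
  rw [seed, AlgHom.comp_apply, first_X]
  refine TrivSqZeroExt.ext ?_ ?_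
  · simp [pt]
  · funext j
    simp [LinearMap.funLeft_apply, Pi.single_apply]

theorem fst_first (f : MvPolynomial (Fin m ⊕ Fin n) Λ) :
    TrivSqZeroExt.fst (first (k := k) c f) = MvPolynomial.aeval (pt c) f := by
  have h : (TrivSqZeroExt.fstHom Λ k (Fin m ⊕ Fin n → k)).comp (first c) =
      MvPolynomial.aeval (pt c) := MvPolynomial.algHom_ext fun i => by
    simp [first]
  exact DFunLike.congr_fun h f

theorem seed_surjective (hc : Submodule.span Λ (Set.range c) = ⊤) :
    Function.Surjective (seed (Λ := Λ) (n := n) c) := by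
  intro (x : TrivSqZeroExt k (Fin n → k))
  choose l hl using fun a : k => (Submodule.mem_span_range_iff_exists_fun Λ).1
    (hc.symm ▸ Submodule.mem_top : a ∈ Submodule.span Λ (Set.range c))
  let s : k → MvPolynomial (Fin m ⊕ Fin n) Λ := fun a =>
    ∑ j, MvPolynomial.C (l a j) * MvPolynomial.X (Sum.inl j)
  have hs : ∀ a, seed (Λ := Λ) (n := n) c (s a) = TrivSqZeroExt.inl a := fun a => by
    conv_rhs => rw [← hl a]
    rw [map_sum, TrivSqZeroExt.inl_sum]
    refine Finset.sum_congr rfl fun j _ => ?_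
    rw [map_mul, seed_X_inl, MvPolynomial.algHom_C, TrivSqZeroExt.algebraMap_eq_inl',
      TrivSqZeroExt.inl_mul_inl, Algebra.smul_def]
  refine ⟨s x.fst + ∑ i, s (x.snd i) * MvPolynomial.X (Sum.inr i), ?_⟩
  rw [map_add, hs, map_sum]
  simp only [map_mul, hs, seed_X_inr]
  refine TrivSqZeroExt.ext ?_ ?_
  · simp [TrivSqZeroExt.fst_sum]
  · simp only [TrivSqZeroExt.inl_mul_inr, TrivSqZeroExt.snd_add, TrivSqZeroExt.snd_inl, zero_add,
      TrivSqZeroExt.snd_sum, TrivSqZeroExt.snd_inr]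
    exact (pi_eq_sum_univ' x.snd).symm

/-- The first order deformation of the point in a given direction. -/
noncomputable def der (u : Fin m ⊕ Fin n → k) :
    MvPolynomial (Fin m ⊕ Fin n) Λ →ₐ[Λ] DualNumber k :=
  (tszeMap (Fintype.linearCombination k u)).comp (first c)

theorem der_X (u : Fin m ⊕ Fin n → k) (i : Fin m ⊕ Fin n) :
    der (Λ := Λ) c u (MvPolynomial.X i) = TrivSqZeroExt.inl (pt c i) + TrivSqZeroExt.inr (u i) := by
  rw [der, AlgHom.comp_apply, first_X]
  refine TrivSqZeroExt.ext ?_ ?_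
  · simp
  · simp [Fintype.linearCombination_apply_single]

theorem fst_der_X (u : Fin m ⊕ Fin n → k) (i : Fin m ⊕ Fin n) :
    TrivSqZeroExt.fst (der (Λ := Λ) c u (MvPolynomial.X i)) = pt c i := by
  rw [der_X]; simp

theorem snd_der_X (u : Fin m ⊕ Fin n → k) (i : Fin m ⊕ Fin n) :
    TrivSqZeroExt.snd (der (Λ := Λ) c u (MvPolynomial.X i)) = u i := by
  rw [der_X]; simp

theorem exists_der (φ : MvPolynomial (Fin m ⊕ Fin n) Λ →ₐ[Λ] DualNumber k)
    (hφ : (TrivSqZeroExt.fstHom Λ k k).comp φ = MvPolynomial.aeval (pt c)) : ∃ u, φ = der c u := by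
  refine ⟨fun i => TrivSqZeroExt.snd (φ (MvPolynomial.X i)), MvPolynomial.algHom_ext fun i => ?_⟩
  rw [der_X]
  refine TrivSqZeroExt.ext ?_ ?_
  · refine ((DFunLike.congr_fun hφ (MvPolynomial.X i)).trans (MvPolynomial.aeval_X _ i)).trans ?_
    simp
  · simp

theorem snd_der_eq_of_mem (u : Fin m ⊕ Fin n → k) {f : MvPolynomial (Fin m ⊕ Fin n) Λ}
    (hf : seed (k := k) c f = 0) :
    TrivSqZeroExt.snd (der c u f) =
      ∑ j, TrivSqZeroExt.snd (first (k := k) c f) (Sum.inl j) * u (Sum.inl j) := by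
  have hx : ∀ i, TrivSqZeroExt.snd (first (k := k) c f) (Sum.inr i) = 0 := fun i => by
    have h := congrArg TrivSqZeroExt.snd hf
    exact congrFun h i
  change Fintype.linearCombination k u (TrivSqZeroExt.snd (first (k := k) c f)) = _
  rw [Fintype.linearCombination_apply, Fintype.sum_sum_type]
  simp [hx]

theorem aeval_eq_zero_of_mem {f : MvPolynomial (Fin m ⊕ Fin n) Λ} (hf : seed (k := k) c f = 0) :
    MvPolynomial.aeval (pt (k := k) c) f = 0 := by
  rw [← fst_first]
  exact (congrArg TrivSqZeroExt.fst hf :)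

end First

section Lift

variable {m n : ℕ} (c : Fin m → k) [IsNoetherianRing Λ] [Module.Finite Λ k]

theorem exists_lift_small {d : ℕ} (g : Fin d → MvPolynomial (Fin m ⊕ Fin n) Λ)
    (hg : ∀ j, seed (k := k) c (g j) = 0)
    (hind : LinearIndependent k fun j i => TrivSqZeroExt.snd (first (k := k) c (g j)) (Sum.inl i))
    {B A : Art Λ k} (p : B ⟶ A) (hp : IsSmallExt p)
    (φ : MvPolynomial (Fin m ⊕ Fin n) Λ →ₐ[Λ] A) (hφr : A.res.comp φ = MvPolynomial.aeval (pt c))
    (hφ : ∀ j, φ (g j) = 0) :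
    ∃ ψ : MvPolynomial (Fin m ⊕ Fin n) Λ →ₐ[Λ] B, p.toAlgHom.comp ψ = φ ∧ ∀ j, ψ (g j) = 0 := by
  choose y hy using fun i => hp.1 (φ (MvPolynomial.X i))
  obtain ⟨t, ht⟩ := hp.2.2.1
  rw [Ideal.submodule_span_eq] at ht
  have htk : p t = 0 := (mem_ker_iff p t).1 (ht ▸ Ideal.mem_span_singleton_self t)
  let ψ₀ : MvPolynomial (Fin m ⊕ Fin n) Λ →ₐ[Λ] B := MvPolynomial.aeval y
  have h₀ : p.toAlgHom.comp ψ₀ = φ := MvPolynomial.algHom_ext fun i =>
    (congrArg p.toAlgHom (MvPolynomial.aeval_X y i)).trans (hy i)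
  choose r hr using fun j => Ideal.mem_span_singleton'.1 (ht ▸ (mem_ker_iff p (ψ₀ (g j))).2
    ((DFunLike.congr_fun h₀ (g j)).trans (hφ j)))
  let vec : Fin d → Fin m → k := fun j i => TrivSqZeroExt.snd (first (k := k) c (g j)) (Sum.inl i)
  obtain ⟨L, hL⟩ := LinearMap.exists_extend
    ((Module.Basis.span (v := vec) hind).constr k fun j => -B.res (r j))
  choose a ha using fun i : Fin m => B.res_surjective (L (Pi.single i 1))
  let y' : Fin m ⊕ Fin n → B := fun i => y i + Sum.elim a 0 i * t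
  let ψ : MvPolynomial (Fin m ⊕ Fin n) Λ →ₐ[Λ] B := MvPolynomial.aeval y'
  have hψ : p.toAlgHom.comp ψ = φ := MvPolynomial.algHom_ext fun i => by
    refine (congrArg p.toAlgHom (MvPolynomial.aeval_X y' i)).trans ?_
    rw [map_add, map_mul, hy, htk, mul_zero, add_zero]
  refine ⟨ψ, hψ, fun j => ?_⟩
  obtain ⟨P, p₁, p₂, hP⟩ := exists_isFibreProd p p hp.1
  obtain ⟨D, hD, hDu, -⟩ := exists_diff p hp t ht p₁ p₂ hP
  have hw : ∀ x, p (ψ₀ x) = p (ψ x) := fun x =>
    (DFunLike.congr_fun h₀ x).trans (DFunLike.congr_fun hψ x).symm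
  let w := fibLiftAlg hP ψ₀ ψ hw
  have hw₁ : ∀ x, p₁ (w x) = ψ₀ x := fibLiftAlg_fst hP ψ₀ ψ hw
  have hw₂ : ∀ x, p₂ (w x) = ψ x := fibLiftAlg_snd hP ψ₀ ψ hw
  have hDw : D.toAlgHom.comp w = der c (Sum.elim (fun i => L (Pi.single i 1)) 0) := by
    refine MvPolynomial.algHom_ext fun i => TrivSqZeroExt.ext ?_ ?_
    · refine (res_app D (w (MvPolynomial.X i))).trans ?_
      rw [← res_app p₁, hw₁, ← res_app p, DFunLike.congr_fun h₀ (MvPolynomial.X i) |> fun e =>
        (e : p (ψ₀ (MvPolynomial.X i)) = φ (MvPolynomial.X i)),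
        DFunLike.congr_fun hφr (MvPolynomial.X i) |> fun e =>
          (e : A.res (φ (MvPolynomial.X i)) = _), MvPolynomial.aeval_X]
      exact (fst_der_X c _ i).symm
    · refine (hDu (w (MvPolynomial.X i)) (Sum.elim a 0 i) ?_).trans ?_
      · rw [hw₁, hw₂, MvPolynomial.aeval_X, MvPolynomial.aeval_X]
        exact add_sub_cancel_left _ _
      · refine Eq.trans ?_ (snd_der_X c _ i).symm
        rcases i with i | i <;> simp [ha]
  obtain ⟨s, hs, hs'⟩ := hD (w (g j))
  rw [hw₁, hw₂] at hs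
  have hs'' : B.res s = -B.res (r j) := by
    rw [hs', show D (w (g j)) = der c (Sum.elim (fun i => L (Pi.single i 1)) 0) (g j) from
      DFunLike.congr_fun hDw (g j), snd_der_eq_of_mem c _ (hg j)]
    simp only [Sum.elim_inl]
    have h1 : ∑ i, vec j i * L (Pi.single i 1) = L (vec j) := by
      conv_rhs => rw [pi_eq_sum_univ' (vec j), map_sum]
      exact Finset.sum_congr rfl fun i _ => by rw [map_smul, smul_eq_mul]
    refine h1.trans ?_
    have h2 := DFunLike.congr_fun hL (Module.Basis.span (v := vec) hind j)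
    rw [Module.Basis.constr_basis, LinearMap.comp_apply, Submodule.subtype_apply,
      Module.Basis.span_apply] at h2
    exact h2
  have hz : (s + r j) * t = 0 := by
    have h3 : s + r j ∈ IsLocalRing.maximalIdeal B := by
      rw [mem_maximalIdeal_iff, map_add, hs'', neg_add_cancel]
    have := Ideal.mul_mem_mul h3 ((mem_ker_iff p t).2 htk)
    rwa [hp.2.2.2, Ideal.mem_bot] at this
  have hr' := hr j
  linear_combination hs + hz - hr'

end Lift

section Main

variable {F : Art Λ k ⥤ Type v} [TangentStr F]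

/-- Tangent vectors coming from the derivations of `k`. -/
def derRange (h0 : H0 F) (h2 : Heps F) (x₀ : F.obj (base Λ k)) :
    Submodule k (TangentSpace F) where
  carrier := Set.range fun σ : base Λ k ⟶ dual Λ k => TangentSpace.mk (F.map σ x₀)
  add_mem' := by
    rintro _ _ ⟨σ, rfl⟩ ⟨τ, rfl⟩
    obtain ⟨φ, h₁, h₂⟩ := exists_pair_hom σ τ
    refine ⟨φ ≫ plus, ?_⟩
    simp only
    rw [← h₁, ← h₂, map_comp', map_comp', map_comp', tangent_add_eq]
  zero_mem' := ⟨baseToDual, by
    simp only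
    have := h2
    rw [tangent_zero_eq (F.map baseToDual x₀), map_comp']
    exact congrArg (fun x => TangentSpace.mk (F.map baseToDual x)) (h0.2.elim _ _)⟩
  smul_mem' a := by
    rintro _ ⟨σ, rfl⟩
    exact ⟨σ ≫ scale a, by simp only; rw [map_comp', tangent_smul_eq]⟩

variable [IsNoetherianRing Λ] [Module.Finite Λ k]

/-- Schlessinger's theorem: `H̄`, `H_ε`, `H_f` give a versal family, miniversal as soon as the
derivations of `k` inject into the tangent space. -/
theorem exists_versal (h0 : H0 F) (h1 : Hbar F) (h2 : Heps F) (h3 : Hfin F) :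
    ∃ (R : CRing Λ k) (ξ : Family R.carrier R.res F), IsVersal ξ ∧
      ((∀ x₀ : F.obj (base Λ k),
        Function.Injective fun σ : base Λ k ⟶ dual Λ k => F.map σ x₀) → IsMiniversal ξ) := by
  classical
  obtain ⟨x₀⟩ := id h0.1
  let W := derRange h0 h2 x₀
  obtain ⟨C, hC⟩ := Submodule.exists_isCompl W
  have : Module.Finite k (TangentSpace F) := h3
  let n := Module.finrank k C
  let b := Module.finBasis k C
  obtain ⟨m, c, hc⟩ := Module.Finite.exists_fin (R := Λ) (M := k)
  let V : Submodule k (Fin m → k) :=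
    { carrier := {v | ∃ f, seed (Λ := Λ) (n := n) c f = 0 ∧
        (fun i => TrivSqZeroExt.snd (first (k := k) c f) (Sum.inl i)) = v}
      add_mem' := by
        rintro _ _ ⟨f, hf, rfl⟩ ⟨g, hg, rfl⟩
        exact ⟨f + g, by rw [map_add, hf, hg, add_zero], funext fun i => by rw [map_add]; rfl⟩
      zero_mem' := ⟨0, map_zero _, funext fun i => by rw [map_zero]; rfl⟩
      smul_mem' := by
        rintro a _ ⟨f, hf, rfl⟩
        obtain ⟨s, hs⟩ := seed_surjective (n := n) c hc (TrivSqZeroExt.inl a)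
        refine ⟨s * f, by rw [map_mul, hf, mul_zero], funext fun i => ?_⟩
        have ha : MvPolynomial.aeval (pt (k := k) c) s = a := by
          rw [← fst_first]
          exact (congrArg TrivSqZeroExt.fst hs :)
        have h0' : TrivSqZeroExt.fst (first (k := k) c f) = 0 := by
          rw [fst_first]; exact aeval_eq_zero_of_mem c hf
        rw [map_mul, TrivSqZeroExt.snd_mul, h0', fst_first, ha]
        simp }
  let d := Module.finrank k V
  let bV := Module.finBasis k V
  choose g hg hgv using fun j => (bV j).2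
  have hind : LinearIndependent k fun j i =>
      TrivSqZeroExt.snd (first (k := k) c (g j)) (Sum.inl i) := by
    rw [show (fun j i => TrivSqZeroExt.snd (first (k := k) c (g j)) (Sum.inl i)) =
      fun j => (V.subtype (bV j)) from funext hgv]
    exact bV.linearIndependent.map' _ (Submodule.ker_subtype V)
  let res₀ : MvPolynomial (Fin m ⊕ Fin n) Λ →ₐ[Λ] k := MvPolynomial.aeval (pt c)
  let I : Ideal (MvPolynomial (Fin m ⊕ Fin n) Λ) := Ideal.span (Set.range g)
  have hI : I ≤ RingHom.ker (seed (Λ := Λ) (k := k) (n := n) c) :=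
    Ideal.span_le.2 (Set.range_subset_iff.2 hg)
  let res : MvPolynomial (Fin m ⊕ Fin n) Λ ⧸ I →ₐ[Λ] k :=
    Ideal.Quotient.liftₐ I res₀ fun f hf => aeval_eq_zero_of_mem c (hI hf)
  have hres : Function.Surjective res := fun a => by
    obtain ⟨s, hs⟩ := seed_surjective (n := n) c hc (TrivSqZeroExt.inl a)
    exact ⟨Ideal.Quotient.mk I s, (fst_first c s).symm.trans (congrArg TrivSqZeroExt.fst hs :)⟩
  let π : MvPolynomial (Fin m ⊕ Fin n) Λ ⧸ I →ₐ[Λ] (En n : Art Λ k) :=
    Ideal.Quotient.liftₐ I (seed c) fun f hf => hI hf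
  have hπr : (En n : Art Λ k).res.comp π = res := by
    refine AlgHom.ext fun x => ?_
    obtain ⟨f, rfl⟩ := Ideal.Quotient.mk_surjective x
    exact fst_first c f
  have hπs : Function.Surjective π := fun x =>
    (seed_surjective c hc x).elim fun f hf => ⟨Ideal.Quotient.mk I f, hf⟩
  have hJ := isNear_ker res π hπr
  have : IsNoetherianRing (MvPolynomial (Fin m ⊕ Fin n) Λ ⧸ I) :=
    isNoetherianRing_of_surjective _ _ (Ideal.Quotient.mk I) Ideal.Quotient.mk_surjective
  let ε := qlift res hres hJ π hπr le_rfl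
  have : IsIso ε := isIso_of_bijective ε ⟨(injective_iff_map_eq_zero ε.toAlgHom).2 fun a ha => by
    obtain ⟨s, rfl⟩ := qmk_surjective res hres _ hJ a
    exact (qmk_eq_zero res hres hJ s).2 (RingHom.mem_ker.2 ha), fun a =>
      (hπs a).elim fun s hs => ⟨qmk res hres _ hJ s, hs⟩⟩
  obtain ⟨ξ, hξ⟩ := exists_first_order h0 h2 n fun i => (b i : TangentSpace F)
  let inc : base Λ k ⟶ (En n : Art Λ k) :=
    ⟨(Algebra.ofId k (TrivSqZeroExt k (Fin n → k))).restrictScalars Λ, AlgHom.ext fun _ => rfl⟩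
  have hsplit : ∀ (σ : base Λ k ⟶ dual Λ k) (l : (Fin n → k) →ₗ[k] k),
      ∃ G : (En n : Art Λ k) ⟶ dual Λ k, inc ≫ G = σ ∧
        (∀ i, TrivSqZeroExt.snd (G (TrivSqZeroExt.inr (Pi.single i 1))) = l (Pi.single i 1)) ∧
        TangentSpace.mk (F.map G ξ) =
          TangentSpace.mk (F.map σ x₀) + ∑ i, l (Pi.single i 1) • (b i : TangentSpace F) := by
    intro σ l
    obtain ⟨φ, h₁, h₂⟩ := exists_pair_hom (toBase (En n) ≫ σ) (lmap l)
    have hsum : ∀ a, TrivSqZeroExt.snd ((φ ≫ plus) a) =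
        TrivSqZeroExt.snd (σ (TrivSqZeroExt.fst a)) + l (TrivSqZeroExt.snd a) := fun a => by
      have e₁ := congrArg (fun f : (En n : Art Λ k) ⟶ dual Λ k => TrivSqZeroExt.snd (f a)) h₁
      have e₂ := congrArg (fun f : (En n : Art Λ k) ⟶ dual Λ k => TrivSqZeroExt.snd (f a)) h₂
      exact congrArg₂ (· + ·) e₁ e₂
    refine ⟨φ ≫ plus, hom_apply_ext fun a => TrivSqZeroExt.ext ?_ ?_, fun i => ?_, ?_⟩
    · exact (res_app (inc ≫ φ ≫ plus) a).trans (res_app σ a).symm
    · refine (hsum (inc a)).trans ?_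
      change TrivSqZeroExt.snd (σ a) + l 0 = _
      rw [map_zero, add_zero]
    · refine (hsum _).trans ?_
      change TrivSqZeroExt.snd (σ 0) + _ = _
      refine (congrArg (· + _) (congrArg TrivSqZeroExt.snd (map_zero σ.toAlgHom))).trans ?_
      exact zero_add _
    · rw [map_comp', ← tangent_add_eq, ← map_comp', ← map_comp', h₁, h₂, hξ, map_comp']
      refine congrArg (fun x => TangentSpace.mk (F.map σ x) + _) (h0.2.elim _ _)
  have hext : ∀ G₁ G₂ : (En n : Art Λ k) ⟶ dual Λ k, inc ≫ G₁ = inc ≫ G₂ →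
      (∀ i, TrivSqZeroExt.snd (G₁ (TrivSqZeroExt.inr (Pi.single i 1))) =
        TrivSqZeroExt.snd (G₂ (TrivSqZeroExt.inr (Pi.single i 1)))) → G₁ = G₂ := by
    intro G₁ G₂ e e'
    have h : G₁.toAlgHom.comp (seed c) = G₂.toAlgHom.comp (seed c) :=
      MvPolynomial.algHom_ext fun i => by
        rcases i with i | i
        · refine ((congrArg G₁.toAlgHom (seed_X_inl c i)).trans ?_).trans
            (congrArg G₂.toAlgHom (seed_X_inl c i)).symm
          exact congrArg (fun f : base Λ k ⟶ dual Λ k => f (c i)) e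
        · refine ((congrArg G₁.toAlgHom (seed_X_inr c i)).trans ?_).trans
            (congrArg G₂.toAlgHom (seed_X_inr c i)).symm
          exact TrivSqZeroExt.ext ((res_app G₁ _).trans (res_app G₂ _).symm) (e' i)
    exact hom_apply_ext fun a => (seed_surjective c hc a).elim fun f hf => hf ▸ DFunLike.congr_fun h f
  have hx : ∀ G : qobj res hres _ hJ ⟶ dual Λ k,
      F.map G (F.map (inv ε) ξ) = F.map (inv ε ≫ G) ξ := fun G => (map_comp' _ _ _ _).symm
  have hgI : ∀ j, Ideal.Quotient.mk I (g j) = 0 := fun j =>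
    Ideal.Quotient.eq_zero_iff_mem.2 (Ideal.subset_span ⟨j, rfl⟩)
  obtain ⟨R, η, hv, hmin⟩ := exists_family (F := F) h0 h1 h2
    (res := res) (hres := hres) (J₀ := RingHom.ker π) (hJ₀ := hJ)
    (fun B A p hp φ hφ => by
      obtain ⟨ψ, hψ, hψg⟩ := exists_lift_small c g hg hind p hp
        (φ.comp (Ideal.Quotient.mkₐ Λ I))
        (AlgHom.ext fun f => DFunLike.congr_fun hφ (Ideal.Quotient.mk I f))
        (fun j => (congrArg φ (hgI j)).trans (map_zero φ))
      refine ⟨Ideal.Quotient.liftₐ I ψ fun f hf =>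
        (Ideal.span_le (I := RingHom.ker ψ)).2 (Set.range_subset_iff.2 hψg) hf,
        AlgHom.ext fun x => ?_⟩
      obtain ⟨f, rfl⟩ := Ideal.Quotient.mk_surjective x
      exact DFunLike.congr_fun hψ f)
    (F.map (inv ε) ξ) (fun t => by
      obtain ⟨w, ⟨σ, rfl⟩, z, hz, hwz⟩ := Submodule.mem_sup.1
        (hC.sup_eq_top.symm ▸ Submodule.mem_top : TangentSpace.mk t ∈ W ⊔ C)
      obtain ⟨G, -, -, hG⟩ := hsplit σ (Fintype.linearCombination k fun i => b.repr ⟨z, hz⟩ i)
      refine ⟨ε ≫ G, ?_⟩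
      change F.map (ε ≫ G) (F.map (inv ε) ξ) = t
      rw [← map_comp', IsIso.inv_hom_id_assoc]
      refine ((hG.trans (Eq.trans ?_ hwz)) :)
      congr 1
      have h4 : ∀ i, Fintype.linearCombination k (fun i => b.repr ⟨z, hz⟩ i) (Pi.single i 1) =
          b.repr ⟨z, hz⟩ i := fun i => by simp [Fintype.linearCombination_apply_single]
      refine (Finset.sum_congr rfl fun i _ =>
        congrArg (fun a : k => a • (b i : TangentSpace F)) (h4 i)).trans ?_
      conv_rhs => rw [show z = C.subtype ⟨z, hz⟩ from rfl, ← b.sum_repr ⟨z, hz⟩, map_sum]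
      exact Finset.sum_congr rfl fun i _ => rfl)
  refine ⟨R, η, hv, fun hinj => hmin (fun φ hφ => ?_) fun G₁ G₂ e => ?_⟩
  · obtain ⟨u, hu⟩ := exists_der (n := n) c (φ.comp (Ideal.Quotient.mkₐ Λ I))
      (AlgHom.ext fun f => DFunLike.congr_fun hφ (Ideal.Quotient.mk I f))
    intro x hx'
    obtain ⟨f, rfl⟩ := Ideal.Quotient.mk_surjective x
    have hf : seed (Λ := Λ) (k := k) c f = 0 := RingHom.mem_ker.1 hx'
    let ℓ : (Fin m → k) →ₗ[k] k := Fintype.linearCombination k fun i => u (Sum.inl i)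
    have hℓ : ∀ f', seed (Λ := Λ) (k := k) c f' = 0 → TrivSqZeroExt.snd (φ (Ideal.Quotient.mk I f')) =
        ℓ fun i => TrivSqZeroExt.snd (first (k := k) c f') (Sum.inl i) := fun f' hf' => by
      rw [show φ (Ideal.Quotient.mk I f') = der c u f' from DFunLike.congr_fun hu f',
        snd_der_eq_of_mem c u hf', Fintype.linearCombination_apply]
      exact Finset.sum_congr rfl fun i _ => (smul_eq_mul _ _).symm
    have hzero : ℓ ∘ₗ V.subtype = 0 := bV.ext fun j => by
      change ℓ (bV j : Fin m → k) = 0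
      rw [← hgv j, ← hℓ _ (hg j), hgI, map_zero]
      rfl
    refine RingHom.mem_ker.2 (TrivSqZeroExt.ext ?_ ((hℓ f hf).trans ?_))
    · exact (DFunLike.congr_fun hφ (Ideal.Quotient.mk I f)).trans (aeval_eq_zero_of_mem c hf)
    · exact DFunLike.congr_fun hzero ⟨_, f, hf, rfl⟩
  · simp only [hx] at e
    have key : ∀ G : qobj res hres _ hJ ⟶ dual Λ k, ∃ (σ : base Λ k ⟶ dual Λ k) (z : C),
        inc ≫ inv ε ≫ G = σ ∧
        TangentSpace.mk (F.map (inv ε ≫ G) ξ) = TangentSpace.mk (F.map σ x₀) + (z : TangentSpace F) ∧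
        (∀ i, TrivSqZeroExt.snd ((inv ε ≫ G) (TrivSqZeroExt.inr (Pi.single i 1))) = b.repr z i) := by
      intro G
      let a : Fin n → k := fun i =>
        TrivSqZeroExt.snd ((inv ε ≫ G) (TrivSqZeroExt.inr (Pi.single i 1)))
      obtain ⟨G', h₁, h₂, h₃⟩ := hsplit (inc ≫ inv ε ≫ G) (Fintype.linearCombination k a)
      have hG' : G' = inv ε ≫ G := hext _ _ h₁ fun i =>
        (h₂ i).trans (by simp [Fintype.linearCombination_apply_single, a])
      refine ⟨_, ∑ i, a i • b i, rfl, ?_, fun i => ?_⟩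
      · rw [← hG', h₁, h₃, Submodule.coe_sum]
        exact congrArg _ (Finset.sum_congr rfl fun i _ => by
          simp [Fintype.linearCombination_apply_single])
      · rw [b.repr_sum_self]
    obtain ⟨σ₁, z₁, hσ₁, hz₁, hr₁⟩ := key G₁
    obtain ⟨σ₂, z₂, hσ₂, hz₂, hr₂⟩ := key G₂
    have e' : TangentSpace.mk (F.map σ₁ x₀) + (z₁ : TangentSpace F) =
        TangentSpace.mk (F.map σ₂ x₀) + (z₂ : TangentSpace F) := by rw [← hz₁, ← hz₂, e]
    have hd : TangentSpace.mk (F.map σ₁ x₀) - TangentSpace.mk (F.map σ₂ x₀) =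
        (z₂ : TangentSpace F) - z₁ :=
      sub_eq_sub_iff_add_eq_add.2 (e'.trans (add_comm _ _))
    have h0W := Submodule.disjoint_def.1 hC.disjoint _
      (W.sub_mem ⟨σ₁, rfl⟩ ⟨σ₂, rfl⟩) (hd ▸ C.sub_mem z₂.2 z₁.2)
    have hzeq : z₁ = z₂ := Subtype.ext (sub_eq_zero.1 (hd ▸ h0W)).symm
    have h0W' := sub_eq_zero.1 h0W
    have hσeq : σ₁ = σ₂ := hinj x₀ h0W'
    have hG : inv ε ≫ G₁ = inv ε ≫ G₂ := hext _ _ ((hσ₁.trans hσeq).trans hσ₂.symm)
      fun i => by rw [hr₁, hr₂, hzeq]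
    exact (cancel_epi (inv ε)).1 hG

end Main

end Groth.Agent.ArtFunLib.Hull
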