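import Groth.Agent.ArtFunLib.Hull.Mor
import Groth.Agent.ArtFunLib.Hull.General
import Groth.Agent.PSLib.Basic
import Groth.Prelude.Def_W4sfdMinVersal
import Groth.Agent.CoeffField.AdicSmooth

/-! Surjectivity criteria for maps of coefficient rings, and their consequences for hulls. -/

universe u v

open CategoryTheory ArtFun ArtFun.Art

namespace Groth.Agent.ArtFunLib.Hull

variable {Λ : Type u} {k : Type u} [CommRing Λ] [Field k] [Algebra Λ k]

theorem baseToDual_toBase : (baseToDual ≫ toBase (dual Λ k) : base Λ k ⟶ base Λ k) = 𝟙 _ :=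
  hom_apply_ext fun _ => rfl

theorem h0_of_tangent_surjective {F : Art Λ k ⥤ Type v} {R : Type u} [CommRing R] [Algebra Λ R]
    {resR : R →ₐ[Λ] k} (ξ : Family R resR F) (hs : Function.Surjective (ξ.app (dual Λ k))) : H0 F := by
  refine h0_of_surjective ξ fun t => ?_
  obtain ⟨φ, hφ⟩ := hs (F.map baseToDual t)
  exact ⟨HomSet.map (toBase _) φ, by rw [ξ.natural, hφ, ← map_comp', baseToDual_toBase, map_id']⟩

/-- If maps to `k[ε]` are determined by their restriction along `f`, then `f` is onto to first order. -/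
theorem maximalIdeal_le_of_separated {C A : Art Λ k} (f : C ⟶ A)
    (h : ∀ G₁ G₂ : A ⟶ dual Λ k, f ≫ G₁ = f ≫ G₂ → G₁ = G₂) :
    IsLocalRing.maximalIdeal A ≤ (IsLocalRing.maximalIdeal C).map f.toAlgHom ⊔
      IsLocalRing.maximalIdeal A ^ 2 := by
  set J₀ := (IsLocalRing.maximalIdeal C).map f.toAlgHom ⊔ IsLocalRing.maximalIdeal A ^ 2 with hJ₀
  intro x hx
  by_contra hx'
  obtain ⟨J, ⟨hJJ, hJm, hxJ⟩, hmax⟩ := set_has_maximal_iff_noetherian.mpr
    (inferInstance : IsNoetherianRing A)
    {J : Ideal A | J₀ ≤ J ∧ J ≤ IsLocalRing.maximalIdeal A ∧ x ∉ J}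
    ⟨J₀, le_rfl, sup_le (Ideal.map_le_iff_le_comap.2 fun c hc => by
      rw [Ideal.mem_comap, mem_maximalIdeal_iff, res_app]
      exact (mem_maximalIdeal_iff C c).1 hc) (Ideal.pow_le_self two_ne_zero), hx'⟩
  have hspan : ∀ z, A.res z = 0 → z ∈ J ⊔ Ideal.span {x} := by
    intro z hz
    by_contra hz'
    have hzJ : z ∉ J := fun h => hz' (Ideal.mem_sup_left h)
    refine hmax (J ⊔ Ideal.span {z}) ⟨hJJ.trans le_sup_left, sup_le hJm
      ((Ideal.span_singleton_le_iff_mem _).2 ((mem_maximalIdeal_iff A z).2 hz)), fun hxz => ?_⟩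
      (lt_of_le_of_ne le_sup_left fun e => hzJ (e ▸ Ideal.mem_sup_right
        (Ideal.mem_span_singleton_self z)))
    obtain ⟨j, hj, w, hw, hjw⟩ := Submodule.mem_sup.1 hxz
    obtain ⟨a, rfl⟩ := Ideal.mem_span_singleton'.1 hw
    by_cases ha : A.res a = 0
    · refine hxJ (hjw ▸ add_mem hj (hJJ (Ideal.mem_sup_right ?_)))
      rw [sq]
      exact Ideal.mul_mem_mul ((mem_maximalIdeal_iff A a).2 ha) ((mem_maximalIdeal_iff A z).2 hz)
    · obtain ⟨u, hu⟩ := ((isUnit_iff_res_ne_zero A a).2 ha).exists_left_inv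
      have hzeq : z = u * x - u * j := by linear_combination (-z) * hu + u * hjw
      exact hz' (hzeq ▸ sub_mem (Ideal.mul_mem_left _ u (Ideal.mem_sup_right
        (Ideal.mem_span_singleton_self x))) (Ideal.mul_mem_left _ u (Ideal.mem_sup_left hj)))
  have hrep : ∀ a : A, ∃ (c : C) (r : A), C.res c = A.res a ∧ a - f c - r * x ∈ J := fun a => by
    obtain ⟨c, hc⟩ := C.res_surjective (A.res a)
    obtain ⟨j, hj, w, hw, hjw⟩ := Submodule.mem_sup.1
      (hspan (a - f c) (by rw [map_sub, res_app, hc, sub_self]))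
    obtain ⟨r, rfl⟩ := Ideal.mem_span_singleton'.1 hw
    exact ⟨c, r, hc, by rw [← hjw]; simpa using hj⟩
  choose cc rr hcc hrr using hrep
  have key : ∀ (a : A) (c : C) (r : A), C.res c = A.res a → a - f c - r * x ∈ J →
      A.res (rr a) = A.res r := by
    intro a c r hc hr
    by_contra hne
    have h1 : f c - f (cc a) ∈ J := by
      rw [← map_sub]
      exact hJJ (Ideal.mem_sup_left (Ideal.mem_map_of_mem _
        ((mem_maximalIdeal_iff C _).2 (by rw [map_sub, hc, hcc, sub_self]))))
    have h2 : (rr a - r) * x ∈ J := by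
      convert add_mem (sub_mem hr (hrr a)) h1 using 1
      ring
    obtain ⟨w, hw⟩ := ((isUnit_iff_res_ne_zero A (rr a - r)).2
      (by rw [map_sub]; exact sub_ne_zero.2 hne)).exists_left_inv
    exact hxJ (by simpa [← mul_assoc, hw] using Ideal.mul_mem_left J w h2)
  have hmm : ∀ p q : A, A.res p = 0 → A.res q = 0 → p * q ∈ J := fun p q hp hq =>
    hJJ (Ideal.mem_sup_right (by
      rw [sq]
      exact Ideal.mul_mem_mul ((mem_maximalIdeal_iff A p).2 hp) ((mem_maximalIdeal_iff A q).2 hq)))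
  let G : A →ₐ[Λ] DualNumber k :=
    { toFun := fun a => (A.res a, A.res (rr a))
      map_one' := TrivSqZeroExt.ext (map_one _) (by
        change A.res (rr 1) = _
        rw [key 1 1 0 (by rw [map_one, map_one]) (by simp), map_zero, TrivSqZeroExt.snd_one])
      map_zero' := TrivSqZeroExt.ext (map_zero _) (by
        change A.res (rr 0) = _
        rw [key 0 0 0 (by rw [map_zero, map_zero]) (by simp), map_zero, TrivSqZeroExt.snd_zero])
      map_add' := fun a b => TrivSqZeroExt.ext (map_add _ _ _) (by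
        change A.res (rr (a + b)) = A.res (rr a) + A.res (rr b)
        rw [key (a + b) (cc a + cc b) (rr a + rr b) (by rw [map_add, map_add, hcc, hcc]) (by
          convert add_mem (hrr a) (hrr b) using 1
          rw [map_add]; ring), map_add])
      map_mul' := fun a b => TrivSqZeroExt.ext (map_mul _ _ _) (by
        change A.res (rr (a * b)) = A.res a • A.res (rr b) + MulOpposite.op (A.res b) • A.res (rr a)
        rw [key (a * b) (cc a * cc b) (f (cc a) * rr b + f (cc b) * rr a)
          (by rw [map_mul, map_mul, hcc, hcc]) (by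
            have h3 := hmm (a - f (cc a)) (b - f (cc b)) (by rw [map_sub, res_app, hcc, sub_self])
              (by rw [map_sub, res_app, hcc, sub_self])
            convert add_mem h3 (add_mem (Ideal.mul_mem_left J (f (cc a)) (hrr b))
              (Ideal.mul_mem_left J (f (cc b)) (hrr a))) using 1
            rw [map_mul]; ring),
          map_add, map_mul, map_mul, res_app, res_app, hcc, hcc, op_smul_eq_smul, smul_eq_mul,
          smul_eq_mul])
      commutes' := fun l => TrivSqZeroExt.ext (A.res.commutes l) (by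
        change A.res (rr (algebraMap Λ A l)) = _
        rw [key (algebraMap Λ A l) (algebraMap Λ C l) 0
          (by rw [AlgHom.commutes, AlgHom.commutes]) (by rw [AlgHom.commutes]; simp), map_zero,
          TrivSqZeroExt.algebraMap_eq_inl', TrivSqZeroExt.snd_inl]) }
  have hG := h (⟨G, rfl⟩ : A ⟶ dual Λ k) (toBase A ≫ baseToDual) (hom_apply_ext fun c => by
    refine TrivSqZeroExt.ext ?_ ?_
    · rfl
    · change A.res (rr (f c)) = _
      rw [key (f c) c 0 (res_app f c).symm (by simp), map_zero]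
      exact (TrivSqZeroExt.snd_inl k _).symm)
  have h4 : A.res (rr x) = 0 := by
    have h5 := congrArg (fun g : A ⟶ dual Λ k => TrivSqZeroExt.snd (g x)) hG
    exact h5.trans (TrivSqZeroExt.snd_inl k _)
  rw [key x 0 1 (by rw [map_zero, (mem_maximalIdeal_iff A x).1 hx]) (by simp), map_one] at h4
  exact one_ne_zero h4

theorem surjective_of_separated {C A : Art Λ k} (f : C ⟶ A)
    (h : ∀ G₁ G₂ : A ⟶ dual Λ k, f ≫ G₁ = f ≫ G₂ → G₁ = G₂) : Function.Surjective f := by
  obtain ⟨N, hN⟩ : IsNilpotent (IsLocalRing.maximalIdeal C) :=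
    (isArtinianRing_iff_isNilpotent_maximalIdeal C).1 inferInstance
  obtain ⟨M, hM⟩ : IsNilpotent (IsLocalRing.maximalIdeal A) :=
    (isArtinianRing_iff_isNilpotent_maximalIdeal A).1 inferInstance
  have := CoeffField.isAdicComplete_of_pow_eq_bot (I := IsLocalRing.maximalIdeal C) (N := N) hN
  have := CoeffField.isAdicComplete_of_pow_eq_bot (I := IsLocalRing.maximalIdeal A) (N := M) hM
  refine PSLib.surjective_of_first_order (φ := (f.toAlgHom : (C : Type u) →+* A))
    (I := IsLocalRing.maximalIdeal C) (J := IsLocalRing.maximalIdeal A) (IsNoetherian.noetherian _)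
    (IsLocalRing.maximalIdeal_le_jacobson _) (Ideal.map_le_iff_le_comap.2 fun c hc => ?_)
    (maximalIdeal_le_of_separated f h) fun a => ?_
  · rw [Ideal.mem_comap, mem_maximalIdeal_iff]
    exact (res_app f c).trans ((mem_maximalIdeal_iff C c).1 hc)
  · obtain ⟨c, hc⟩ := C.res_surjective (A.res a)
    refine ⟨c, (mem_maximalIdeal_iff A _).2 ?_⟩
    rw [map_sub]
    exact sub_eq_zero.2 (((res_app f c).trans hc).symm)

variable {F : Art Λ k ⥤ Type v}

/-- An endomorphism of a pro-representable functor bijective on `k[ε]` is bijective. -/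
theorem bijective_app_of_endo [IsNoetherianRing Λ] [Module.Finite Λ k] (P : ProRep F) (φ : F ⟶ F)
    (hd : Function.Bijective (φ.app (dual Λ k))) (A : Art Λ k) : Function.Bijective (φ.app A) := by
  obtain ⟨g, ⟨hg, hge⟩, -⟩ := existsUnique_along P.universal P.ring (P.family.push φ)
  have hval : ∀ (B : Art Λ k) (ψ : HomSet P.ring.carrier P.ring.res B),
      φ.app B (P.family.app B ψ) =
        P.family.app B ⟨ψ.1.comp g, by rw [← AlgHom.comp_assoc, ψ.2, hg]⟩ := fun B ψ =>
    (congrArg (fun η : Family P.ring.carrier P.ring.res F => η.app B ψ) hge).symm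
  have hsep : ∀ ψ₁ ψ₂ : HomSet P.ring.carrier P.ring.res (dual Λ k),
      ψ₁.1.comp g = ψ₂.1.comp g → ψ₁ = ψ₂ := fun ψ₁ ψ₂ e =>
    (P.universal _).1 (hd.1 (by
      rw [hval, hval]
      exact congrArg (P.family.app _) (Subtype.ext e)))
  have hker : ∀ n, (RingHom.ker P.ring.res ^ n).map g ≤ RingHom.ker P.ring.res ^ n := fun n => by
    rw [Ideal.map_pow]
    refine Ideal.pow_right_mono (Ideal.map_le_iff_le_comap.2 fun x hx => ?_) n
    rw [Ideal.mem_comap, RingHom.mem_ker, ← AlgHom.comp_apply, hg]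
    exact hx
  have hres := P.ring.res_surjective
  let gn : ∀ n, qobj P.ring.res hres _ (isNear_ker_pow P.ring n) ⟶
      qobj P.ring.res hres _ (isNear_ker_pow P.ring n) := fun n =>
    qlift P.ring.res hres (isNear_ker_pow P.ring n)
      ((qmk P.ring.res hres _ (isNear_ker_pow P.ring n)).comp g)
      (by rw [← AlgHom.comp_assoc]; exact (congrArg (fun t => AlgHom.comp t g)
        (AlgHom.ext fun _ => rfl)).trans hg)
      fun x hx => (qmk_eq_zero P.ring.res hres _ (g x)).2 (hker _ (Ideal.mem_map_of_mem _ hx))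
  have hgn : ∀ n, Function.Bijective (gn n) := fun n => by
    have hs : Function.Surjective (gn n) := surjective_of_separated _ fun G₁ G₂ e => by
      have h := hsep ⟨G₁.toAlgHom.comp (qmk P.ring.res hres _ _), by
          rw [← AlgHom.comp_assoc, G₁.res_comp]; rfl⟩
        ⟨G₂.toAlgHom.comp (qmk P.ring.res hres _ _), by
          rw [← AlgHom.comp_assoc, G₂.res_comp]; rfl⟩
        (AlgHom.ext fun x =>
          congrArg (fun t : qobj P.ring.res hres _ (isNear_ker_pow P.ring n) ⟶ dual Λ k =>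
            t (qmk P.ring.res hres _ _ x)) e)
      exact qobj_hom_ext _ _ fun x => DFunLike.congr_fun (congrArg Subtype.val h) x
    haveI := isNoetherian_base (qobj P.ring.res hres _ (isNear_ker_pow P.ring n))
    exact ⟨IsNoetherian.injective_of_surjective_endomorphism (gn n).toAlgHom.toLinearMap hs, hs⟩
  have hfac : ∀ ψ : HomSet P.ring.carrier P.ring.res A, ∃ (n : ℕ)
      (j : qobj P.ring.res hres _ (isNear_ker_pow P.ring n) ⟶ A),
      j.toAlgHom.comp (qmk P.ring.res hres _ _) = ψ.1 := fun ψ => by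
    obtain ⟨-, N, hN⟩ := isNear_ker P.ring.res ψ.1 ψ.2
    exact ⟨N, exists_factor _ (qmk_surjective _ _ _ _) rfl ψ
      (fun x hx => hN (Ideal.pow_le_pow_right (Nat.le_succ N)
        ((qmk_eq_zero P.ring.res hres (isNear_ker_pow P.ring N) x).1 (RingHom.mem_ker.1 hx))))⟩
  constructor
  · intro y₁ y₂ e
    obtain ⟨ψ₁, rfl⟩ := (P.universal A).2 y₁
    obtain ⟨ψ₂, rfl⟩ := (P.universal A).2 y₂
    rw [hval, hval] at e
    have e' := congrArg Subtype.val ((P.universal A).1 e)
    obtain ⟨n₁, j₁, h₁⟩ := hfac ψ₁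
    obtain ⟨n₂, j₂, h₂⟩ := hfac ψ₂
    obtain ⟨n, hn₁, hn₂⟩ : ∃ n, n₁ ≤ n ∧ n₂ ≤ n := ⟨_, le_max_left _ _, le_max_right _ _⟩
    refine congrArg _ (Subtype.ext (AlgHom.ext fun x => ?_))
    obtain ⟨a, ha⟩ := (hgn n).2 (qmk P.ring.res hres _ (isNear_ker_pow P.ring n) x)
    obtain ⟨y, rfl⟩ := qmk_surjective P.ring.res hres _ (isNear_ker_pow P.ring n) a
    have hx : ∀ (i : ℕ) (hi : i ≤ n)
        (j : qobj P.ring.res hres _ (isNear_ker_pow P.ring i) ⟶ A),
        j (qmk P.ring.res hres _ (isNear_ker_pow P.ring i) (g y)) =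
          j (qmk P.ring.res hres _ (isNear_ker_pow P.ring i) x) := fun i hi j => by
      have h := congrArg (qTrans P.ring.res hres (isNear_ker_pow P.ring n) (isNear_ker_pow P.ring i)
        (Ideal.pow_le_pow_right (Nat.succ_le_succ hi))) ha
      exact congrArg j.toAlgHom h
    calc ψ₁.1 x = ψ₁.1 (g y) := by
          rw [← h₁]; exact (hx n₁ hn₁ j₁).symm
      _ = ψ₂.1 (g y) := DFunLike.congr_fun e' y
      _ = ψ₂.1 x := by rw [← h₂]; exact hx n₂ hn₂ j₂
  · intro y
    obtain ⟨ψ, rfl⟩ := (P.universal A).2 y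
    obtain ⟨n, j, hj⟩ := hfac ψ
    have : IsIso (gn n) := isIso_of_bijective _ (hgn n)
    let q₀ : HomSet P.ring.carrier P.ring.res (qobj P.ring.res hres _ (isNear_ker_pow P.ring n)) :=
      ⟨qmk P.ring.res hres _ _, AlgHom.ext fun _ => rfl⟩
    refine ⟨P.family.app A (HomSet.map (inv (gn n) ≫ j) q₀), (hval A _).trans ?_⟩
    refine congrArg _ (Subtype.ext (AlgHom.ext fun x => ?_))
    refine Eq.trans ?_ (DFunLike.congr_fun hj x)
    exact congrArg (fun t : qobj P.ring.res hres _ (isNear_ker_pow P.ring n) ⟶ A =>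
      t (qmk P.ring.res hres _ _ x)) (IsIso.hom_inv_id_assoc (gn n) j)

/-- Power series rings with a family bijective on `k[ε]` are hulls, if there is a hull. -/
theorem isMiniversal_of_powerSeries [IsNoetherianRing Λ] [Module.Finite Λ k] (hF : HasHull F)
    (R : CRing Λ k) (n : ℕ) (e : R.carrier ≃ₐ[Λ] MvPowerSeries (Fin n) Λ)
    (ξ : Family R.carrier R.res F) (hξ : Function.Bijective (ξ.app (dual Λ k))) :
    IsMiniversal ξ := by
  obtain ⟨H⟩ := hF
  have h0 := h0_of_tangent_surjective ξ hξ.2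
  have hs := surjective_app_of_isVersal H.miniversal.1 h0
  refine ⟨(isVersal_iff_tangent ξ h0 (hbar_of_s1 (s1_of_versal H.miniversal.1 hs))
    (heps_of_miniversal H.miniversal hs)).2 ⟨hξ.2, fun B A μ hμ φ y _ => ?_⟩, hξ⟩
  have hX : ∀ i, A.res (φ.1 (e.symm (MvPowerSeries.X i))) = 0 := fun i => by
    refine (DFunLike.congr_fun φ.2 _).trans ?_
    rw [← RingHom.mem_ker, ker_res_eq, IsLocalRing.mem_maximalIdeal, mem_nonunits_iff]
    intro hu
    have h := (hu.map e).map (MvPowerSeries.constantCoeff (σ := Fin n) (R := Λ))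
    rw [AlgEquiv.apply_symm_apply, MvPowerSeries.constantCoeff_X] at h
    have h' : IsUnit (algebraMap Λ k 0) := h.map _
    rw [map_zero] at h'
    exact not_isUnit_zero h'
  choose b hb using fun i => hμ.1 (φ.1 (e.symm (MvPowerSeries.X i)))
  obtain ⟨N, hN⟩ : IsNilpotent (IsLocalRing.maximalIdeal B) :=
    (isArtinianRing_iff_isNilpotent_maximalIdeal B).1 inferInstance
  obtain ⟨M, hM⟩ : IsNilpotent (IsLocalRing.maximalIdeal A) :=
    (isArtinianRing_iff_isNilpotent_maximalIdeal A).1 inferInstance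
  have := CoeffField.isAdicComplete_of_pow_eq_bot (I := IsLocalRing.maximalIdeal B) (N := N) hN
  have := CoeffField.isAdicComplete_of_pow_eq_bot (I := IsLocalRing.maximalIdeal A) (N := M) hM
  obtain ⟨χ, hχ⟩ := PSLib.exists_algHom (R := Λ) (IsLocalRing.maximalIdeal B) b fun i => by
    rw [mem_maximalIdeal_iff, ← res_app μ, hb, hX]
  have key : μ.toAlgHom.comp χ = φ.1.comp e.symm.toAlgHom := by
    refine PSLib.algHom_ext (I := IsLocalRing.maximalIdeal A) _ _ (fun i => ?_) fun i => ?_
    · rw [AlgHom.comp_apply, hχ, hb]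
      exact (mem_maximalIdeal_iff A _).2 (hX i)
    · rw [AlgHom.comp_apply, hχ, hb]
      rfl
  have hc : μ.toAlgHom.comp (χ.comp e.toAlgHom) = φ.1 := AlgHom.ext fun x => by
    refine (DFunLike.congr_fun key (e x)).trans ?_
    exact congrArg φ.1 (e.symm_apply_apply x)
  refine ⟨⟨χ.comp e.toAlgHom, AlgHom.ext fun x => ?_⟩, Subtype.ext hc⟩
  rw [AlgHom.comp_apply, ← res_app μ]
  exact (congrArg A.res (DFunLike.congr_fun hc x)).trans (DFunLike.congr_fun φ.2 x)

/-- Hulls are minimal versal. -/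
theorem isMinimalVersal_of_hull [IsNoetherianRing Λ] [Module.Finite Λ k] (h0 : H0 F) (P : Hull F) :
    P.family.IsMinimalVersal := by
  refine ⟨P.miniversal.1, fun R' u f hf he => ?_⟩
  have hs := surjective_app_of_isVersal P.miniversal.1 h0 (R'.trunc 1)
  obtain ⟨γ, hγ⟩ := hs (u.elt 1)
  have hsurj : Function.Surjective (CRing.truncMapOfHom f hf 1) :=
    surjective_of_separated _ fun G₁ G₂ e => by
      have key : ∀ G : P.ring.trunc 1 ⟶ dual Λ k,
          P.family.app _ (HomSet.map (CRing.truncMapOfHom f hf 1 ≫ G) γ) =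
            F.map G (P.family.toFormalElt.elt 1) := fun G => by
        rw [P.family.natural, hγ, map_comp']
        exact congrArg (F.map G) (congrArg (fun t => FormalElt.elt t 1) he)
      have h1 : F.map G₁ (P.family.toFormalElt.elt 1) = F.map G₂ (P.family.toFormalElt.elt 1) := by
        rw [← key G₁, ← key G₂, e]
      simp only [Family.toFormalElt, ← P.family.natural] at h1
      have h2 := congrArg Subtype.val (P.miniversal.2.1 h1)
      exact hom_apply_ext fun a => by
        obtain ⟨x, rfl⟩ := Ideal.Quotient.mk_surjective a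
        exact DFunLike.congr_fun h2 x
  have := P.ring.isAdicComplete
  have := R'.isAdicComplete
  refine PSLib.surjective_of_first_order (φ := (f : R'.carrier →+* P.ring.carrier))
    (I := IsLocalRing.maximalIdeal R'.carrier) (J := IsLocalRing.maximalIdeal P.ring.carrier)
    (IsNoetherian.noetherian _) (IsLocalRing.maximalIdeal_le_jacobson _)
    (Ideal.map_le_iff_le_comap.2 (CRing.maximalIdeal_le_comap f hf)) (fun x hx => ?_) fun b => ?_
  · obtain ⟨a, ha⟩ := hsurj (Ideal.Quotient.mk _ x)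
    obtain ⟨a, rfl⟩ := Ideal.Quotient.mk_surjective a
    have h2 : f a - x ∈ CRing.mpow P.ring 1 := Ideal.Quotient.eq.1 ha
    have h3 : f a - x ∈ IsLocalRing.maximalIdeal P.ring.carrier ^ 2 := h2
    have hfa : f a ∈ IsLocalRing.maximalIdeal P.ring.carrier := by
      simpa using add_mem (Ideal.pow_le_self two_ne_zero h3) hx
    have hm : a ∈ IsLocalRing.maximalIdeal R'.carrier := by
      rw [CRing.mem_maximalIdeal_iff] at hfa ⊢
      rwa [CRing.res_comp_apply f hf] at hfa
    exact Submodule.mem_sup.2 ⟨f a, Ideal.mem_map_of_mem _ hm, -(f a - x), neg_mem h3, by ring⟩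
  · obtain ⟨a, ha⟩ := R'.res_surjective (P.ring.res b)
    refine ⟨a, (CRing.mem_maximalIdeal_iff _ _).2 ?_⟩
    rw [map_sub]
    exact sub_eq_zero.2 (ha.symm.trans (CRing.res_comp_apply f hf a).symm)

/-- Schlessinger's criterion for a finite residue extension. -/
theorem isProrepresentable_iff_general [IsNoetherianRing Λ] [Module.Finite Λ k] [TangentStr F] :
    IsProrepresentable F ↔
      ((H0 F ∧ (∀ ⦃B A A' A'' : Art Λ k⦄ (p' : B ⟶ A') (p'' : B ⟶ A'') (f' : A' ⟶ A) (f'' : A'' ⟶ A)
        (h : IsFibreProd p' p'' f' f''), Function.Surjective f'' → Function.Bijective (cmp F h))) ∧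
        Hfin F ∧
        ∀ x₀ : F.obj (base Λ k),
          Function.Injective (fun σ : base Λ k ⟶ dual Λ k => F.map σ x₀)) := by
  constructor
  · rintro ⟨P⟩
    have h0 := h0_of_universal P.universal
    refine ⟨⟨h0, fun _ _ _ _ p' p'' f' f'' h _ => isLeftExact_of_universal P.universal p' p'' f' f'' h⟩,
      hfin_of_surjective P.ring.res_surjective P.family (P.universal _).2, fun x₀ σ₁ σ₂ e => ?_⟩
    rw [show x₀ = P.family.app _ (baseHom _) from h0.2.elim _ _] at e
    simp only [← P.family.natural] at e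
    have e' := congrArg Subtype.val ((P.universal _).1 e)
    exact hom_apply_ext fun a =>
      (P.ring.res_surjective a).elim fun r hr => hr ▸ DFunLike.congr_fun e' r
  · rintro ⟨⟨h0, hrs⟩, h3, hinj⟩
    obtain ⟨R, ξ, -, hmin⟩ := exists_versal h0
      (fun _ _ _ _ p' p'' f' f'' h hf => (hrs p' p'' f' f'' h hf.1).2)
      (fun _ _ p' p'' h => hrs p' p'' _ _ h (toBase_surjective _)) h3
    exact ⟨⟨R, ξ, universal_of_miniversal (hmin hinj) h0
      fun _ _ _ p₁ p₂ f h hf => hrs p₁ p₂ f f h hf.1⟩⟩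

end Groth.Agent.ArtFunLib.Hull
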