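import Groth.Agent.ArtFunLib.Hull.Criteria

/-! Minimal versal families, and separation by first order tangent vectors. -/

universe u v

open CategoryTheory ArtFun ArtFun.Art

namespace Groth.Agent.ArtFunLib.Hull

variable {Λ : Type u} {k : Type u} [CommRing Λ] [Field k] [Algebra Λ k]

theorem eq_of_subsingleton_derivation (hk : Subsingleton (Derivation Λ k k))
    (σ₁ σ₂ : base Λ k ⟶ dual Λ k) : σ₁ = σ₂ := by
  have key : ∀ (σ : base Λ k ⟶ dual Λ k) (a : k), TrivSqZeroExt.snd (σ a) = 0 := by
    intro σ a
    let s : k →ₐ[Λ] DualNumber k := σ.toAlgHom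
    have hfst : ∀ b, TrivSqZeroExt.fst (s b) = b := fun b => DFunLike.congr_fun σ.res_comp b
    let D : Derivation Λ k k :=
      { toFun := fun b => TrivSqZeroExt.snd (s b)
        map_add' := fun b c => by simp
        map_smul' := fun l b => by simp
        map_one_eq_zero' := by
          change TrivSqZeroExt.snd (s 1) = 0
          rw [map_one]; rfl
        leibniz' := fun b c => by
          change TrivSqZeroExt.snd (s (b * c)) =
            b • TrivSqZeroExt.snd (s c) + c • TrivSqZeroExt.snd (s b)
          rw [map_mul, TrivSqZeroExt.snd_mul, hfst, hfst, op_smul_eq_smul] }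
    exact DFunLike.congr_fun (hk.elim D 0) a
  exact hom_apply_ext fun a => TrivSqZeroExt.ext ((res_app σ₁ a).trans (res_app σ₂ a).symm)
    ((key σ₁ a).trans (key σ₂ a).symm)

/-- Without derivations of `k`, minimal versal families are hulls. -/
theorem isMiniversal_of_isMinimalVersal [IsNoetherianRing Λ] [Module.Finite Λ k]
    (hk : Subsingleton (Derivation Λ k k)) {F : Art Λ k ⥤ Type v} (h0 : H0 F) (h2 : Heps F)
    {R : CRing Λ k} (ξ : Family R.carrier R.res F) (hξ : ξ.IsMinimalVersal) : IsMiniversal ξ := by
  obtain ⟨T⟩ := nonempty_tangentStr h0 h2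
  have hs := surjective_app_of_isVersal hξ.1 h0
  obtain ⟨R', η, hη, hmin⟩ := exists_versal h0 (hbar_of_s1 (s1_of_versal hξ.1 hs)) h2
    (hfin_of_surjective R.res_surjective ξ (hs _))
  have hη' := hmin fun x₀ σ₁ σ₂ _ => eq_of_subsingleton_derivation hk σ₁ σ₂
  obtain ⟨g, hg, hge⟩ := exists_along_of_versal hη h0 R ξ
  have hsurj : Function.Surjective g := by
    refine hξ.2 R' η.toFormalElt g hg (FormalElt.ext' fun n => ?_)
    change F.map (CRing.truncMapOfHom g hg n) (η.app _ (R'.truncHom n)) = ξ.app _ (R.truncHom n)
    rw [← η.natural, ← hge]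
    exact congrArg (η.app _) (Subtype.ext (AlgHom.ext fun _ => rfl))
  refine ⟨hξ.1, fun ψ₁ ψ₂ e => ?_, hs _⟩
  rw [← hge] at e
  have e' := congrArg Subtype.val (hη'.2.1 e)
  refine Subtype.ext (AlgHom.ext fun x => ?_)
  obtain ⟨y, rfl⟩ := hsurj x
  exact DFunLike.congr_fun e' y

/-- Over `Λ = k`, maps to `k[ε]` separate the points of an object with square-zero maximal ideal. -/
theorem eq_of_forall_dual {K : Type u} [Field K] (A : Art K K)
    (hA : IsLocalRing.maximalIdeal A ^ 2 = ⊥) {a b : A} (hab : A.res a = A.res b)
    (h : ∀ G : A ⟶ dual K K, TrivSqZeroExt.snd (G a) = TrivSqZeroExt.snd (G b)) : a = b := by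
  by_contra hne
  let d := a - b
  have hd : A.res d = 0 := by rw [map_sub, hab, sub_self]
  obtain ⟨ℓ, hℓ⟩ : ∃ ℓ : Module.Dual K A, ℓ d ≠ 0 := by
    by_contra h'
    push_neg at h'
    exact hne (sub_eq_zero.1 ((Module.forall_dual_apply_eq_zero_iff K d).1 h'))
  let D : A → K := fun x => ℓ (x - algebraMap K A (A.res x))
  let G : A →ₐ[K] DualNumber K :=
    { toFun := fun x => (A.res x, D x)
      map_one' := TrivSqZeroExt.ext (map_one _) (by
        change D 1 = _
        simp [D])
      map_zero' := TrivSqZeroExt.ext (map_zero _) (by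
        change D 0 = _
        simp [D])
      map_add' := fun x y => TrivSqZeroExt.ext (map_add _ _ _) (by
        change D (x + y) = D x + D y
        rw [show D x + D y = ℓ ((x - algebraMap K A (A.res x)) + (y - algebraMap K A (A.res y))) from
          (map_add ℓ _ _).symm]
        exact congrArg ℓ (by rw [map_add, map_add]; abel))
      map_mul' := fun x y => TrivSqZeroExt.ext (map_mul _ _ _) (by
        change D (x * y) = A.res x • D y + MulOpposite.op (A.res y) • D x
        have hz : (x - algebraMap K A (A.res x)) * (y - algebraMap K A (A.res y)) = 0 := by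
          have := Ideal.mul_mem_mul
            ((mem_maximalIdeal_iff A (x - algebraMap K A (A.res x))).2 (by
              rw [map_sub, AlgHom.commutes]; simp))
            ((mem_maximalIdeal_iff A (y - algebraMap K A (A.res y))).2 (by
              rw [map_sub, AlgHom.commutes]; simp))
          rwa [← sq, hA, Ideal.mem_bot] at this
        rw [op_smul_eq_smul, show A.res x • D y + A.res y • D x = ℓ (A.res x •
          (y - algebraMap K A (A.res y)) + A.res y • (x - algebraMap K A (A.res x))) from
          ((map_add ℓ _ _).trans (congrArg₂ (· + ·) (map_smul ℓ _ _) (map_smul ℓ _ _))).symm]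
        refine congrArg ℓ ?_
        rw [Algebra.smul_def, Algebra.smul_def, map_mul, map_mul]
        linear_combination hz)
      commutes' := fun c => TrivSqZeroExt.ext (A.res.commutes c) (by
        change D (algebraMap K A c) = _
        simp only [D, AlgHom.commutes, Algebra.algebraMap_self, RingHom.id_apply, sub_self, map_zero]
        rw [TrivSqZeroExt.algebraMap_eq_inl', TrivSqZeroExt.snd_inl]) }
  have hG := h ⟨G, rfl⟩
  change D a = D b at hG
  refine hℓ ?_
  change ℓ (a - b) = 0
  simp only [D, hab, map_sub] at hG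
  rw [map_sub]
  linear_combination hG

end Groth.Agent.ArtFunLib.Hull
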