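import Groth.Agent.ArtFunLib.Hull.Build
import Groth.Agent.ArtFunLib.Tangent
import Mathlib.Algebra.MvPolynomial.CommRing
import Mathlib.RingTheory.Polynomial.Basic
import Mathlib.RingTheory.Nakayama

/-! Small prolongations of an element which is versal for first order prolongations. -/

universe u v

open CategoryTheory ArtFun ArtFun.Art

namespace Groth.Agent.ArtFunLib

variable {Λ : Type u} {k : Type u} [CommRing Λ] [Field k] [Algebra Λ k]

theorem inl_mul_inr_one {K : Type u} [Field K] (x : DualNumber K) (hx : TrivSqZeroExt.fst x = 0) :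
    (TrivSqZeroExt.inl (TrivSqZeroExt.snd x) : DualNumber K) * TrivSqZeroExt.inr 1 = x := by
  rw [TrivSqZeroExt.inl_mul_inr, smul_eq_mul, mul_one]
  exact TrivSqZeroExt.ext ((TrivSqZeroExt.fst_inr K _).trans hx.symm) (TrivSqZeroExt.snd_inr K _)

theorem mul_eq_zero_of_fst {K : Type u} [Field K] (c b : DualNumber K) (hc : TrivSqZeroExt.fst c = 0)
    (hb : TrivSqZeroExt.fst b = 0) : c * b = 0 := by
  refine TrivSqZeroExt.ext ?_ ?_
  · rw [TrivSqZeroExt.fst_mul, hc, zero_mul, TrivSqZeroExt.fst_zero]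
  · rw [TrivSqZeroExt.snd_mul, hc, hb, zero_smul, MulOpposite.op_zero, zero_smul, add_zero,
      TrivSqZeroExt.snd_zero]

theorem isSmallExt_toBase_dual : IsSmallExt (toBase (dual Λ k)) := by
  have hker : ∀ x : dual Λ k, x ∈ RingHom.ker (toBase (dual Λ k)).toAlgHom ↔
      TrivSqZeroExt.fst (x : DualNumber k) = 0 := fun x => mem_ker_iff (toBase (dual Λ k)) x
  let e : dual Λ k := (TrivSqZeroExt.inr 1 : DualNumber k)
  have he : e ∈ RingHom.ker (toBase (dual Λ k)).toAlgHom := (hker e).2 (TrivSqZeroExt.fst_inr k 1)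
  refine ⟨toBase_surjective _, fun h => ?_, ⟨e, ?_⟩, ?_⟩
  · rw [h, Ideal.mem_bot] at he
    have h1 : TrivSqZeroExt.snd (TrivSqZeroExt.inr 1 : DualNumber k) = 0 :=
      (congrArg TrivSqZeroExt.snd (show (TrivSqZeroExt.inr 1 : DualNumber k) = 0 from he)).trans
        TrivSqZeroExt.snd_zero
    rw [TrivSqZeroExt.snd_inr] at h1
    exact one_ne_zero h1
  · rw [Ideal.submodule_span_eq]
    refine le_antisymm (fun x hx => ?_) ((Ideal.span_singleton_le_iff_mem _).2 he)
    refine Ideal.mem_span_singleton'.2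
      ⟨(TrivSqZeroExt.inl (TrivSqZeroExt.snd (x : DualNumber k)) : DualNumber k), ?_⟩
    exact inl_mul_inr_one (x : DualNumber k) ((hker x).1 hx)
  · rw [eq_bot_iff, Ideal.mul_le]
    intro c hc b hb
    rw [Ideal.mem_bot]
    have hc' : TrivSqZeroExt.fst (c : DualNumber k) = 0 := (mem_maximalIdeal_iff _ c).1 hc
    have hb' := (hker b).1 hb
    exact mul_eq_zero_of_fst (c : DualNumber k) b hc' hb'

variable [IsNoetherianRing Λ] [Module.Finite Λ k] {F : Art Λ k ⥤ Type v}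

/-- A morphism over `g` can be corrected by a tangent vector so as to map `a'` to `a₁`. -/
theorem exists_lift_map_eq (h1 : S1 F) (h2 : Heps F) {R R₁ R' : Art Λ k} (π₁ : R₁ ⟶ R)
    (hπ : IsSmallExt π₁) (g : R' ⟶ R) (a : F.obj R) (a₁ : F.obj R₁) (a' : F.obj R')
    (h₁ : F.map π₁ a₁ = a) (h' : F.map g a' = a)
    (hvers : ∀ (R₀ : Art Λ k), IsSmallExt (toBase R₀) → ∀ b : F.obj R₀, ∃ φ : R ⟶ R₀, F.map φ a = b)
    (f : R' ⟶ R₁) (hf : f ≫ π₁ = g) : ∃ f : R' ⟶ R₁, f ≫ π₁ = g ∧ F.map f a' = a₁ := by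
  obtain ⟨t, ht⟩ := hπ.2.2.1
  rw [Ideal.submodule_span_eq] at ht
  obtain ⟨P, p₁, p₂, hP⟩ := exists_isFibreProd π₁ π₁ hπ.1
  obtain ⟨d, -, -, hd⟩ := exists_diff π₁ hπ t ht p₁ p₂ hP
  obtain ⟨w, hw₁, hw₂⟩ := exists_of_cmp_surjective (h1 p₁ p₂ π₁ π₁ hP hπ.1) (F.map f a') a₁
    (by rw [← map_comp', hf, h', h₁])
  obtain ⟨φ, hφ⟩ := hvers (dual Λ k) isSmallExt_toBase_dual (F.map d w)
  have wc : f ≫ toBase R₁ = (g ≫ φ) ≫ toBase (dual Λ k) := by
    rw [eq_toBase (f ≫ toBase R₁), eq_toBase ((g ≫ φ) ≫ toBase (dual Λ k))]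
  let l : R' ⟶ P := fibLift hd f (g ≫ φ) wc
  have hl : F.map l a' = w := by
    refine cmp_ext (h2 p₁ d hd).1 ?_ ?_
    · rw [← map_comp', fibLift_fst, hw₁]
    · rw [← map_comp', fibLift_snd, map_comp', h', hφ]
  refine ⟨l ≫ p₂, ?_, ?_⟩
  · rw [Category.assoc, ← hP.w, ← Category.assoc, fibLift_fst, hf]
  · rw [map_comp', hl, hw₂]

open Hull

omit [IsNoetherianRing Λ] [Module.Finite Λ k] in
/-- Minimal generators of the maximal ideal modulo its square and the maximal ideal of `Λ`. -/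
theorem exists_minimal_generators (R : Art Λ k) (N : Ideal R) : ∃ s : Finset R,
      (↑s : Set R) ⊆ (IsLocalRing.maximalIdeal R : Ideal R) ∧
      IsLocalRing.maximalIdeal R ≤ Ideal.span (↑s : Set R) ⊔ N ∧
      ∀ x ∈ s, ∀ c : s → R, ∑ i, c i * (i : R) ∈ N →
        ∀ i : s, (i : R) = x → c i ∈ IsLocalRing.maximalIdeal R := by
  classical
  obtain ⟨s₀, hs₀⟩ := IsNoetherian.noetherian (IsLocalRing.maximalIdeal R)
  have hex : ∃ n : ℕ, ∃ s : Finset R, s.card = n ∧ (↑s : Set R) ⊆ (IsLocalRing.maximalIdeal R : Ideal R) ∧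
      IsLocalRing.maximalIdeal R ≤ Ideal.span (↑s : Set R) ⊔ N :=
    ⟨s₀.card, s₀, rfl, fun x hx => hs₀ ▸ Submodule.subset_span hx, hs₀.ge.trans le_sup_left⟩
  obtain ⟨s, hcard, hsm, hsp⟩ := Nat.find_spec hex
  refine ⟨s, hsm, hsp, ?_⟩
  rintro _ - c hc i₀ rfl
  by_contra hu
  have hu' : IsUnit (c i₀) := (IsLocalRing.notMem_maximalIdeal).1 hu
  have hmem : (i₀ : R) ∈ Ideal.span (↑(s.erase i₀) : Set R) ⊔ N := by
    rw [Fintype.sum_eq_add_sum_compl i₀] at hc
    have h1 : ∑ i ∈ ({i₀} : Finset s)ᶜ, c i * (i : R) ∈ Ideal.span (↑(s.erase i₀) : Set R) :=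
      sum_mem fun i hi => Ideal.mul_mem_left _ _ (Ideal.subset_span
        (Finset.mem_erase.2 ⟨fun e => Finset.mem_compl.1 hi (Finset.mem_singleton.2 (Subtype.ext e)),
          i.2⟩))
    have h2 : c i₀ * (i₀ : R) ∈ Ideal.span (↑(s.erase i₀) : Set R) ⊔ N := by
      have h3 := sub_mem (Ideal.mem_sup_right (S := Ideal.span (↑(s.erase i₀) : Set R)) hc)
        (Ideal.mem_sup_left (T := N) h1)
      rwa [add_sub_cancel_right] at h3
    exact (Ideal.unit_mul_mem_iff_mem _ hu').1 h2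
  have hsp' : IsLocalRing.maximalIdeal R ≤ Ideal.span (↑(s.erase i₀) : Set R) ⊔ N := by
    refine hsp.trans (sup_le (Ideal.span_le.2 fun x hx => ?_) le_sup_right)
    by_cases hxi : x = i₀
    · exact hxi ▸ hmem
    · exact Ideal.mem_sup_left (Ideal.subset_span (Finset.mem_erase.2 ⟨hxi, hx⟩))
  exact Nat.find_min hex (hcard ▸ Finset.card_erase_lt_of_mem i₀.2)
    ⟨s.erase i₀, rfl, fun x hx => hsm (Finset.mem_of_mem_erase hx), hsp'⟩

omit [IsNoetherianRing Λ] [Module.Finite Λ k] in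
/-- Modulo the square of the ideal of variables a polynomial is affine. -/
theorem exists_affine_part {σ : Type*} [Fintype σ] (p : MvPolynomial σ Λ) :
    ∃ (c₀ : Λ) (c : σ → Λ), p - (MvPolynomial.C c₀ + ∑ i, MvPolynomial.C (c i) * MvPolynomial.X i) ∈
      (Ideal.span (Set.range (MvPolynomial.X : σ → MvPolynomial σ Λ))) ^ 2 := by
  classical
  set M := Ideal.span (Set.range (MvPolynomial.X : σ → MvPolynomial σ Λ))
  have hX : ∀ i, (MvPolynomial.X i : MvPolynomial σ Λ) ∈ M := fun i => Ideal.subset_span ⟨i, rfl⟩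
  induction p using MvPolynomial.induction_on with
  | C a => exact ⟨a, 0, by simp⟩
  | add p q hp hq =>
    obtain ⟨a, c, hc⟩ := hp
    obtain ⟨b, d, hd⟩ := hq
    refine ⟨a + b, c + d, ?_⟩
    have h := add_mem hc hd
    convert h using 1
    simp only [map_add, Pi.add_apply, add_mul, Finset.sum_add_distrib]
    ring
  | mul_X p j hp =>
    obtain ⟨a, c, hc⟩ := hp
    refine ⟨0, Pi.single j a, ?_⟩
    have hs : ∑ i, MvPolynomial.C (Pi.single (M := fun _ => Λ) j a i) * MvPolynomial.X i =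
        (MvPolynomial.C a * MvPolynomial.X j : MvPolynomial σ Λ) := by
      rw [Finset.sum_eq_single j (fun i _ h => by rw [Pi.single_eq_of_ne h, map_zero, zero_mul])
        (fun h => absurd (Finset.mem_univ j) h), Pi.single_eq_same]
    rw [hs, map_zero, zero_add]
    have h1 : (∑ i, MvPolynomial.C (c i) * MvPolynomial.X i) * MvPolynomial.X j ∈ M ^ 2 := by
      rw [pow_two]
      exact Ideal.mul_mem_mul (sum_mem fun i _ => Ideal.mul_mem_left _ _ (hX i)) (hX j)
    have h2 := add_mem (Ideal.mul_mem_right (MvPolynomial.X j) _ hc) h1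
    convert h2 using 1
    ring

omit [IsNoetherianRing Λ] [Module.Finite Λ k] in
theorem surjective_aeval (hk : Function.Surjective (algebraMap Λ k)) (R : Art Λ k) (s : Finset R)
    (hsm : (↑s : Set R) ⊆ (IsLocalRing.maximalIdeal R : Ideal R))
    (hsp : IsLocalRing.maximalIdeal R ≤ Ideal.span (↑s : Set R) ⊔ (IsLocalRing.maximalIdeal R ^ 2 ⊔
      (RingHom.ker (algebraMap Λ k)).map (algebraMap Λ R))) :
    Function.Surjective (MvPolynomial.aeval (R := Λ) fun i : s => (i : R)) := by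
  set m := IsLocalRing.maximalIdeal R
  set G := Ideal.span (↑s : Set R) ⊔ (RingHom.ker (algebraMap Λ k)).map (algebraMap Λ R)
  let T := (MvPolynomial.aeval (R := Λ) fun i : s => (i : R)).range
  have hGm : G ≤ m := sup_le (Ideal.span_le.2 hsm) (Ideal.map_le_iff_le_comap.2 fun l hl => by
    rw [Ideal.mem_comap, mem_maximalIdeal_iff, AlgHom.commutes]
    exact hl)
  have hmG : m ≤ G := Submodule.le_of_le_smul_of_le_jacobson_bot (IsNoetherian.noetherian m)
    (IsLocalRing.maximalIdeal_le_jacobson ⊥) (by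
      refine hsp.trans (sup_le (le_sup_left.trans le_sup_left) (sup_le ?_ (le_sup_right.trans le_sup_left)))
      rw [pow_two]
      exact le_sup_right)
  have hres : ∀ r : R, ∃ z ∈ T, r - z ∈ m := by
    intro r
    obtain ⟨l, hl⟩ := hk (R.res r)
    refine ⟨algebraMap Λ R l, T.algebraMap_mem l, ?_⟩
    rw [mem_maximalIdeal_iff, map_sub, AlgHom.commutes, hl, sub_self]
  have hgen : ∀ x ∈ (↑s : Set R) ∪ algebraMap Λ R '' RingHom.ker (algebraMap Λ k), x ∈ T ∧ x ∈ m := by
    rintro x (hx | ⟨l, hl, rfl⟩)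
    · exact ⟨⟨MvPolynomial.X ⟨x, hx⟩, MvPolynomial.aeval_X _ _⟩, hsm hx⟩
    · exact ⟨T.algebraMap_mem l, hGm (Ideal.mem_sup_right (Ideal.mem_map_of_mem _ hl))⟩
  have hG : G = Ideal.span ((↑s : Set R) ∪ algebraMap Λ R '' RingHom.ker (algebraMap Λ k)) := by
    rw [Ideal.span_union]; rfl
  have hstep : ∀ j : ℕ, ∀ x ∈ m ^ j, ∃ z ∈ T, z ∈ m ^ j ∧ x - z ∈ m ^ (j + 1) := by
    intro j
    induction j with
    | zero =>
      intro x _
      obtain ⟨z, hz, hxz⟩ := hres x
      exact ⟨z, hz, by simp, by rwa [pow_one]⟩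
    | succ j ih =>
      intro x hx
      rw [pow_succ'] at hx
      refine Submodule.mul_induction_on hx (fun g hg y hy => ?_) fun a b ⟨z, hz, hz', hza⟩ ⟨w, hw, hw', hwb⟩ =>
        ⟨z + w, add_mem hz hw, add_mem hz' hw', by simpa [add_sub_add_comm] using add_mem hza hwb⟩
      replace hg := hmG hg
      rw [hG] at hg
      induction hg using Submodule.span_induction generalizing y with
      | mem g hg =>
        obtain ⟨hgT, hgm⟩ := hgen g hg
        obtain ⟨z, hz, hz', hyz⟩ := ih y hy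
        refine ⟨g * z, mul_mem hgT hz, ?_, ?_⟩
        · rw [pow_succ']
          exact Ideal.mul_mem_mul hgm hz'
        · rw [← mul_sub, pow_succ' m (j + 1)]
          exact Ideal.mul_mem_mul hgm hyz
      | zero => exact ⟨0, zero_mem _, zero_mem _, by simp⟩
      | add g g' _ _ h h' =>
        obtain ⟨z, hz, hz', hza⟩ := h y hy
        obtain ⟨w, hw, hw', hwb⟩ := h' y hy
        exact ⟨z + w, add_mem hz hw, add_mem hz' hw', by
          simpa [add_mul, add_sub_add_comm] using add_mem hza hwb⟩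
      | smul r g _ h =>
        obtain ⟨z, hz, hz', hza⟩ := h (r * y) (Ideal.mul_mem_left _ r hy)
        exact ⟨z, hz, hz', by rwa [smul_eq_mul, mul_assoc, mul_left_comm]⟩
  obtain ⟨n, hn⟩ : IsNilpotent m := (isArtinianRing_iff_isNilpotent_maximalIdeal R).1 inferInstance
  have hall : ∀ j : ℕ, ∀ x : R, ∃ z ∈ T, x - z ∈ m ^ j := by
    intro j
    induction j with
    | zero => exact fun x => ⟨0, zero_mem _, by simp⟩
    | succ j ih =>
      intro x
      obtain ⟨z, hz, hxz⟩ := ih x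
      obtain ⟨w, hw, -, hxw⟩ := hstep j _ hxz
      exact ⟨z + w, add_mem hz hw, by rwa [← sub_sub]⟩
  intro x
  obtain ⟨z, ⟨p, hp⟩, hxz⟩ := hall n x
  rw [hn, Ideal.zero_eq_bot, Submodule.mem_bot, sub_eq_zero] at hxz
  exact ⟨p, hp.trans hxz.symm⟩

/-- The largest semismall prolongation. -/
theorem exists_prolongation [IsLocalRing Λ] (hk : Function.Surjective (algebraMap Λ k)) (h1 : S1 F)
    (h2 : Heps F) (R : Art Λ k) (a : F.obj R)
    (hvers : ∀ (R₀ : Art Λ k), IsSmallExt (toBase R₀) → ∀ b : F.obj R₀, ∃ φ : R ⟶ R₀, F.map φ a = b) :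
    ∃ (R' : Art Λ k) (q : R' ⟶ R) (a' : F.obj R'), F.map q a' = a ∧ IsSemismallExt q ∧
      (∀ x' : R', x' ∈ IsLocalRing.maximalIdeal (R' : Type u) →
        q x' ∈ (IsLocalRing.maximalIdeal (R : Type u)) ^ 2 ⊔
          (IsLocalRing.maximalIdeal Λ).map (algebraMap Λ R) →
        x' ∈ (IsLocalRing.maximalIdeal (R' : Type u)) ^ 2 ⊔
          (IsLocalRing.maximalIdeal Λ).map (algebraMap Λ R')) ∧
      ∀ (R₁ : Art Λ k) (π₁ : R₁ ⟶ R), IsSmallExt π₁ → ∀ a₁ : F.obj R₁, F.map π₁ a₁ = a →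
        ∃ f : R' ⟶ R₁, f ≫ π₁ = q ∧ F.map f a' = a₁ := by
  classical
  have hmΛ : RingHom.ker (algebraMap Λ k) = IsLocalRing.maximalIdeal Λ :=
    IsLocalRing.eq_maximalIdeal (RingHom.ker_isMaximal_of_surjective _ hk)
  obtain ⟨s, hsm, hsp, hmin⟩ := exists_minimal_generators R
    (IsLocalRing.maximalIdeal R ^ 2 ⊔ (RingHom.ker (algebraMap Λ k)).map (algebraMap Λ R))
  let φ : MvPolynomial s Λ →ₐ[Λ] R := MvPolynomial.aeval fun i : s => (i : R)
  have hφ : Function.Surjective φ := surjective_aeval hk R s hsm hsp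
  let res : MvPolynomial s Λ →ₐ[Λ] k := R.res.comp φ
  have hres : Function.Surjective res := R.res_surjective.comp hφ
  have hresX : ∀ i : s, res (MvPolynomial.X i) = 0 := fun i => by
    change R.res (φ _) = 0
    rw [MvPolynomial.aeval_X, ← mem_maximalIdeal_iff]
    exact hsm i.2
  let J := RingHom.ker φ
  have hJ : IsNear res J := isNear_ker res φ rfl
  let ε : qobj res hres J hJ ⟶ R := qlift res hres hJ φ rfl le_rfl
  have : IsIso ε := isIso_of_bijective ε ⟨(injective_iff_map_eq_zero ε.toAlgHom).2 fun x hx => by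
    obtain ⟨p, rfl⟩ := qmk_surjective res hres _ hJ x
    exact (qmk_eq_zero res hres hJ p).2 (RingHom.mem_ker.2 hx), fun r =>
      (hφ r).elim fun p hp => ⟨qmk res hres _ hJ p, hp⟩⟩
  let L : Level res hres F := ⟨J, hJ, F.map (inv ε) a⟩
  have hε : F.map ε L.elt = a := by rw [← map_comp', IsIso.inv_hom_id, map_id']
  have : IsArtinianRing (MvPolynomial s Λ ⧸ RingHom.ker res * J) :=
    isArtinianRing_quotient hres hJ.mul
  obtain ⟨I, ⟨hIn, hIJ, hIM, x, hx⟩, hImin⟩ := exists_least (RingHom.ker res * J) (Lifts L)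
    (fun I hI => hI.elim fun _ h => h.elim fun _ h => h.1) ⟨J, lifts_self L⟩
    fun I K hI hK => lifts_inf h1 L hI hK
  let q : qobj res hres I hIn ⟶ R := qTrans res hres hIn hJ hIJ ≫ ε
  have hqx : F.map q x = a := by rw [map_comp', hx, hε]
  have hqs : Function.Surjective q := fun r => (hφ r).elim fun p hp => ⟨qmk res hres I hIn p, hp⟩
  have hq0 : ∀ p, q (qmk res hres I hIn p) = φ p := fun _ => rfl
  refine ⟨qobj res hres I hIn, q, x, hqx, ⟨hqs, ?_⟩, ?_, fun R₁ π₁ hπ a₁ ha₁ => ?_⟩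
  · rw [eq_bot_iff, Ideal.mul_le]
    intro c hc b hb
    obtain ⟨c, rfl⟩ := qmk_surjective res hres I hIn c
    obtain ⟨b, rfl⟩ := qmk_surjective res hres I hIn b
    rw [mem_maximalIdeal_iff, res_qmk] at hc
    rw [mem_ker_iff, hq0] at hb
    rw [← map_mul, Ideal.mem_bot, qmk_eq_zero]
    exact hIM (Ideal.mul_mem_mul hc hb)
  · intro x' hx' hqx'
    obtain ⟨p, rfl⟩ := qmk_surjective res hres I hIn x'
    rw [mem_maximalIdeal_iff, res_qmk] at hx'
    rw [hq0] at hqx'
    rw [← hmΛ] at hqx' ⊢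
    set Q := IsLocalRing.maximalIdeal (qobj res hres I hIn : Type u) ^ 2 ⊔
      (RingHom.ker (algebraMap Λ k)).map (algebraMap Λ (qobj res hres I hIn : Type u))
    have hM : Ideal.span (Set.range (MvPolynomial.X : s → MvPolynomial s Λ)) ≤ RingHom.ker res :=
      Ideal.span_le.2 (by rintro _ ⟨i, rfl⟩; exact hresX i)
    have hcst : ∀ l : Λ, algebraMap Λ k l = 0 → qmk res hres I hIn (MvPolynomial.C l) ∈ Q := fun l hl =>
      Ideal.mem_sup_right (by
        rw [← MvPolynomial.algebraMap_eq, AlgHom.commutes]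
        exact Ideal.mem_map_of_mem _ hl)
    obtain ⟨c₀, c, hd⟩ := exists_affine_part p
    have hd0 := (hM (Ideal.pow_le_self two_ne_zero hd))
    have hc₀ : algebraMap Λ k c₀ = 0 := by
      rw [RingHom.mem_ker, map_sub, hx', map_add, map_sum] at hd0
      simpa [hresX, ← MvPolynomial.algebraMap_eq] using hd0
    have hci : ∀ i, algebraMap Λ k (c i) = 0 := by
      intro i
      have hdR : φ (p - (MvPolynomial.C c₀ + ∑ i, MvPolynomial.C (c i) * MvPolynomial.X i)) ∈
          IsLocalRing.maximalIdeal R ^ 2 := by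
        refine (Ideal.pow_right_mono (Ideal.map_le_iff_le_comap.2 ?_) 2)
          ((Ideal.map_pow φ _ 2).le (Ideal.mem_map_of_mem φ hd))
        intro y hy
        rw [Ideal.mem_comap, mem_maximalIdeal_iff]
        exact hM hy
      have hsum : ∑ i : s, algebraMap Λ R (c i) * (i : R) ∈
          IsLocalRing.maximalIdeal R ^ 2 ⊔ (RingHom.ker (algebraMap Λ k)).map (algebraMap Λ R) := by
        have h0 : algebraMap Λ R c₀ ∈ IsLocalRing.maximalIdeal R ^ 2 ⊔
            (RingHom.ker (algebraMap Λ k)).map (algebraMap Λ R) :=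
          Ideal.mem_sup_right (Ideal.mem_map_of_mem _ hc₀)
        have h3 := sub_mem (sub_mem hqx' (Ideal.mem_sup_left hdR)) h0
        convert h3 using 1
        simp [φ, map_sum]
      have := hmin i i.2 (fun i => algebraMap Λ R (c i)) hsum i rfl
      rwa [mem_maximalIdeal_iff, AlgHom.commutes] at this
    rw [← sub_add_cancel p (MvPolynomial.C c₀ + ∑ i, MvPolynomial.C (c i) * MvPolynomial.X i),
      map_add, map_add (qmk res hres I hIn) (MvPolynomial.C c₀), map_sum]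
    refine add_mem (Ideal.mem_sup_left ?_) (add_mem (hcst _ hc₀) (sum_mem fun i _ => ?_))
    · refine (Ideal.pow_right_mono (Ideal.map_le_iff_le_comap.2 ?_) 2)
        ((Ideal.map_pow (qmk res hres I hIn) _ 2).le (Ideal.mem_map_of_mem _ hd))
      intro y hy
      rw [Ideal.mem_comap, mem_maximalIdeal_iff, res_qmk]
      exact hM hy
    · rw [map_mul]
      exact Ideal.mul_mem_right _ _ (hcst _ (hci i))
  · obtain ⟨f, hf⟩ := Hull.exists_extend (hbar_of_s1 h1)
      (hJ := hJ) (x := L.elt) (fun B A p hp ψ hψ => by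
        choose g hg using hp.1
        exact ⟨MvPolynomial.aeval fun i => g (ψ (MvPolynomial.X i)),
          MvPolynomial.algHom_ext fun i => by simp [hg]⟩)
      ⟨I, hIn, x⟩ hIJ hImin π₁ hπ ε a₁ (hε.trans ha₁.symm)
    exact exists_lift_map_eq h1 h2 π₁ hπ q a a₁ x ha₁ hqx hvers f hf

end Groth.Agent.ArtFunLib
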