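import Groth.Agent.ArtFunLib.Hull.Seed

/-! Pro-representability, and finiteness of tangent spaces of functors with hulls. -/

universe u v

open CategoryTheory ArtFun ArtFun.Art

namespace Groth.Agent.ArtFunLib.Hull

variable {Λ : Type u} {k : Type u} [CommRing Λ] [Field k] [Algebra Λ k] {F : Art Λ k ⥤ Type v}

theorem h0_of_universal {R : Type u} [CommRing R] [Algebra Λ R] {resR : R →ₐ[Λ] k}
    {ξ : Family R resR F} (h : IsUniversal ξ) : H0 F := h0_of_surjective ξ (h _).2

theorem miniversal_of_universal {R : Type u} [CommRing R] [Algebra Λ R] {resR : R →ₐ[Λ] k}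
    {ξ : Family R resR F} (h : IsUniversal ξ) : IsMiniversal ξ := by
  refine ⟨fun B A μ _ φ y e => ?_, h _⟩
  obtain ⟨ψ, rfl⟩ := (h B).2 y
  exact ⟨ψ, (h A).1 (by rw [ξ.natural, e]), rfl⟩

theorem isLeftExact_of_universal {R : Type u} [CommRing R] [Algebra Λ R] {resR : R →ₐ[Λ] k}
    {ξ : Family R resR F} (hu : IsUniversal ξ) : IsLeftExact F := by
  intro B A A' A'' p' p'' f' f'' h
  constructor
  · intro z₁ z₂ e
    obtain ⟨φ₁, rfl⟩ := (hu B).2 z₁
    obtain ⟨φ₂, rfl⟩ := (hu B).2 z₂
    have e₁ : F.map p' (ξ.app B φ₁) = F.map p' (ξ.app B φ₂) := congrArg (fun t => t.1.1) e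
    have e₂ : F.map p'' (ξ.app B φ₁) = F.map p'' (ξ.app B φ₂) := congrArg (fun t => t.1.2) e
    rw [← ξ.natural, ← ξ.natural] at e₁ e₂
    exact congrArg (ξ.app B)
      ((hR_isLeftExact R resR p' p'' f' f'' h).1 (FibProd.ext ((hu A').1 e₁) ((hu A'').1 e₂)))
  · rintro ⟨⟨x', x''⟩, e⟩
    obtain ⟨φ', rfl⟩ := (hu A').2 x'
    obtain ⟨φ'', rfl⟩ := (hu A'').2 x''
    have e' : HomSet.map f' φ' = HomSet.map f'' φ'' := (hu A).1 (by rw [ξ.natural, ξ.natural]; exact e)
    exact ⟨ξ.app B (homPair h φ' φ'' e'), FibProd.ext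
      (((ξ.natural p' _).symm.trans (congrArg (ξ.app A') (homPair_fst h φ' φ'' e'))) :)
      (((ξ.natural p'' _).symm.trans (congrArg (ξ.app A'') (homPair_snd h φ' φ'' e'))) :)⟩

theorem universal_of_miniversal [IsNoetherianRing Λ] [Module.Finite Λ k] {R : Type u} [CommRing R]
    [Algebra Λ R] {resR : R →ₐ[Λ] k} {ξ : Family R resR F} (h : IsMiniversal ξ) (h0 : H0 F)
    (h4 : HSq F) : IsUniversal ξ := fun A => by
  refine ⟨fun φ₁ φ₂ e => ?_, surjective_app_of_isVersal h.1 h0 A⟩
  exact sepAt_of_small (F := hR R resR) (family_natural ξ)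
    (fun A B μ hμ => sepAt_small (family_natural ξ) (hR_hbar R resR) (hR_heps R resR) h4 h.2.1 μ hμ)
    (toBase A) A.res_surjective φ₁ φ₂
    (((hR_h0 R resR).2).elim _ _) e

/-- A family bijective, or just surjective, on `k[ε]` from a Noetherian local ring makes the tangent
space finite. -/
theorem hfin_of_surjective [Module.Finite Λ k] [TangentStr F] {R : Type u} [CommRing R]
    [IsNoetherianRing R] [Algebra Λ R] {resR : R →ₐ[Λ] k} (hres : Function.Surjective resR)
    (ξ : Family R resR F) (hs : Function.Surjective (ξ.app (dual Λ k))) : Hfin F := by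
  obtain ⟨T⟩ := nonempty_tangentStr (F := hR R resR) (hR_h0 R resR) (hR_heps R resR)
  obtain ⟨n, f, hf⟩ := Submodule.fg_iff_exists_fin_generating_family.1
    (IsNoetherian.noetherian (RingHom.ker resR))
  obtain ⟨m, c, hc⟩ := Module.Finite.exists_fin (R := Λ) (M := k)
  choose e he using fun j => hres (c j)
  have hval : ∀ (φ : HomSet R resR (dual Λ k)) r, TrivSqZeroExt.fst (φ.1 r) = resR r := fun φ r =>
    DFunLike.congr_fun φ.2 r
  let E : TangentSpace (hR R resR) →ₗ[k] Fin n ⊕ Fin m → k :=
    { toFun := fun φ i => TrivSqZeroExt.snd ((TangentSpace.val φ).1 (Sum.elim f e i))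
      map_add' := fun φ ψ => by
        obtain ⟨z, h₁, h₂⟩ := exists_pair (hR_h0 R resR) (hR_heps R resR)
          (TangentSpace.val φ) (TangentSpace.val ψ)
        have hadd : φ + ψ = TangentSpace.mk ((hR R resR).map plus z) := by
          rw [← tangent_add_eq, h₁, h₂]; rfl
        rw [hadd, ← h₁, ← h₂]
        rfl
      map_smul' := fun a φ => by
        have hsm : a • φ = TangentSpace.mk ((hR R resR).map (scale a) (TangentSpace.val φ)) := by
          rw [← tangent_smul_eq]; rfl
        rw [hsm]
        rfl }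
  have hE : Function.Injective E := by
    intro φ ψ h
    refine Subtype.ext (AlgHom.ext fun r => ?_)
    have hgen : ∀ i, (TangentSpace.val φ).1 (Sum.elim f e i) = (TangentSpace.val ψ).1 (Sum.elim f e i) :=
      fun i => TrivSqZeroExt.ext ((hval (TangentSpace.val φ) _).trans (hval (TangentSpace.val ψ) _).symm)
        (congrFun h i)
    have hm : ∀ x, resR x = 0 → (TangentSpace.val φ).1 x = (TangentSpace.val ψ).1 x := by
      intro x hx
      obtain ⟨a, rfl⟩ := (Submodule.mem_span_range_iff_exists_fun R).1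
        (hf.symm ▸ (RingHom.mem_ker.2 hx : x ∈ RingHom.ker resR) : x ∈ Submodule.span R (Set.range f))
      rw [map_sum, map_sum]
      refine Finset.sum_congr rfl fun i _ => ?_
      have hfi : resR (f i) = 0 := RingHom.mem_ker.1 (hf ▸ Submodule.subset_span (Set.mem_range_self i))
      rw [smul_eq_mul, map_mul, map_mul, hgen (Sum.inl i) |> fun t => (t :
        (TangentSpace.val φ).1 (f i) = (TangentSpace.val ψ).1 (f i))]
      set z : DualNumber k := (TangentSpace.val ψ).1 (f i)
      have hz : TrivSqZeroExt.fst z = 0 := (hval (TangentSpace.val ψ) _).trans hfi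
      set p : DualNumber k := (TangentSpace.val φ).1 (a i)
      set q : DualNumber k := (TangentSpace.val ψ).1 (a i)
      have hpq : TrivSqZeroExt.fst p = TrivSqZeroExt.fst q :=
        (hval (TangentSpace.val φ) _).trans (hval (TangentSpace.val ψ) _).symm
      show p * z = q * z
      refine TrivSqZeroExt.ext ?_ ?_
      · simp [hz]
      · simp [hz, hpq]
    obtain ⟨l, hl⟩ := (Submodule.mem_span_range_iff_exists_fun Λ).1
      (hc.symm ▸ Submodule.mem_top : resR r ∈ Submodule.span Λ (Set.range c))
    have h1 := hm (r - ∑ j, l j • e j) (by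
      rw [map_sub, map_sum, sub_eq_zero, ← hl]
      exact Finset.sum_congr rfl fun j _ => by rw [map_smul, he])
    rw [map_sub, map_sub, map_sum, map_sum] at h1
    simp only [map_smul] at h1
    refine (sub_left_inj (a := ∑ j, l j • (TangentSpace.val φ).1 (e j))).1 (h1.trans ?_)
    exact congrArg _ (Finset.sum_congr rfl fun j _ => congrArg (l j • ·) (hgen (Sum.inr j)).symm)
  have : Module.Finite k (TangentSpace (hR R resR)) := Module.Finite.of_injective E hE
  let Ξ : TangentSpace (hR R resR) →ₗ[k] TangentSpace F :=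
    { toFun := TangentSpace.ofFamily ξ
      map_add' := fun φ ψ => by
        obtain ⟨z, h₁, h₂⟩ := exists_pair (hR_h0 R resR) (hR_heps R resR)
          (TangentSpace.val φ) (TangentSpace.val ψ)
        have hadd : φ + ψ = TangentSpace.mk ((hR R resR).map plus z) := by
          rw [← tangent_add_eq, h₁, h₂]; rfl
        rw [hadd]
        change TangentSpace.mk (ξ.app _ (HomSet.map plus z)) =
          TangentSpace.mk (ξ.app _ (TangentSpace.val φ)) + TangentSpace.mk (ξ.app _ (TangentSpace.val ψ))
        refine (congrArg TangentSpace.mk (ξ.natural plus z)).trans ?_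
        rw [← h₁, ← h₂, family_natural, family_natural, tangent_add_eq]
      map_smul' := fun a φ => by
        have hsm : a • φ = TangentSpace.mk ((hR R resR).map (scale a) (TangentSpace.val φ)) := by
          rw [← tangent_smul_eq]; rfl
        rw [hsm, RingHom.id_apply]
        change TangentSpace.mk (ξ.app _ (HomSet.map (scale a) (TangentSpace.val φ))) =
          a • TangentSpace.mk (ξ.app _ (TangentSpace.val φ))
        refine (congrArg TangentSpace.mk (ξ.natural (scale a) (TangentSpace.val φ))).trans ?_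
        rw [tangent_smul_eq] }
  exact Module.Finite.of_surjective Ξ hs

/-- Necessity of Schlessinger's conditions for a hull. -/
theorem conditions_of_miniversal [Module.Finite Λ k] [TangentStr F] {R : CRing Λ k}
    {ξ : Family R.carrier R.res F} (h : IsMiniversal ξ) (h0 : H0 F) : S1 F ∧ Heps F ∧ Hfin F :=
  ⟨s1_of_versal h.1 (surjective_app_of_isVersal h.1 h0),
    heps_of_miniversal h (surjective_app_of_isVersal h.1 h0),
    hfin_of_surjective R.res_surjective ξ h.2.2⟩

/-- Schlessinger's pro-representability criterion. -/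
theorem isProrepresentable_iff [IsNoetherianRing Λ] [Module.Finite Λ k]
    (hk : Function.Surjective (algebraMap Λ k)) [TangentStr F] (h0 : H0 F) :
    IsProrepresentable F ↔ (Hbar F ∧ Heps F ∧ Hfin F ∧ HSq F) := by
  constructor
  · rintro ⟨P⟩
    have hl := isLeftExact_of_universal P.universal
    exact ⟨fun _ _ _ _ p' p'' f' f'' h _ => (hl p' p'' f' f'' h).2,
      fun _ _ p' p'' h => hl p' p'' _ _ h,
      hfin_of_surjective P.ring.res_surjective P.family (P.universal _).2,
      fun _ _ _ p₁ p₂ f h _ => hl p₁ p₂ f f h⟩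
  · rintro ⟨h1, h2, h3, h4⟩
    obtain ⟨H⟩ := hasHull_of_surjective hk h0 h1 h2 h3
    exact ⟨⟨H.ring, H.family, universal_of_miniversal H.miniversal h0 h4⟩⟩

end Groth.Agent.ArtFunLib.Hull
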