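import Groth.Agent.ArtFunLib.Smooth
import Mathlib.RingTheory.HopkinsLevitzki
import Mathlib.RingTheory.KrullDimension.Zero
import Mathlib.RingTheory.Noetherian.Basic

/-! Artinian quotients of an augmented Noetherian algebra. -/

universe u v

open CategoryTheory ArtFun ArtFun.Art

namespace Groth.Agent.ArtFunLib.Hull

variable {Λ : Type u} {k : Type u} [CommRing Λ] [Field k] [Algebra Λ k]
variable {S : Type u} [CommRing S] [Algebra Λ S]

/-- Ideals inside the kernel of the augmentation containing one of its powers. -/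
structure IsNear (res : S →ₐ[Λ] k) (J : Ideal S) : Prop where
  le : J ≤ RingHom.ker res
  pow : ∃ N, RingHom.ker res ^ N ≤ J

theorem ker_isMaximal (res : S →ₐ[Λ] k) (hres : Function.Surjective res) :
    (RingHom.ker res).IsMaximal :=
  RingHom.ker_isMaximal_of_surjective (res : S →+* k) hres

theorem IsNear.inf {res : S →ₐ[Λ] k} {I J : Ideal S} (hI : IsNear res I) (hJ : IsNear res J) :
    IsNear res (I ⊓ J) := by
  obtain ⟨M, hM⟩ := hI.pow
  obtain ⟨N, hN⟩ := hJ.pow
  exact ⟨inf_le_left.trans hI.le, M + N, le_inf ((Ideal.pow_le_pow_right (by omega)).trans hM)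
    ((Ideal.pow_le_pow_right (by omega)).trans hN)⟩

theorem IsNear.mul {res : S →ₐ[Λ] k} {J : Ideal S} (hJ : IsNear res J) :
    IsNear res (RingHom.ker res * J) := by
  obtain ⟨N, hN⟩ := hJ.pow
  exact ⟨Ideal.mul_le_right.trans hJ.le,
    N + 1, (pow_succ' (RingHom.ker res) N).le.trans (Ideal.mul_mono_right hN)⟩

theorem IsNear.of_between {res : S →ₐ[Λ] k} {I J K : Ideal S} (hI : IsNear res I) (hJ : IsNear res J)
    (h₁ : I ≤ K) (h₂ : K ≤ J) : IsNear res K :=
  ⟨h₂.trans hJ.le, hI.pow.imp fun _ h => h.trans h₁⟩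

theorem isArtinianRing_quotient [IsNoetherianRing S] {res : S →ₐ[Λ] k} (hres : Function.Surjective res)
    {J : Ideal S} (hJ : IsNear res J) : IsArtinianRing (S ⧸ J) := by
  haveI : IsNoetherianRing (S ⧸ J) :=
    isNoetherianRing_of_surjective S (S ⧸ J) (Ideal.Quotient.mk J) Ideal.Quotient.mk_surjective
  haveI : Ring.KrullDimLE 0 (S ⧸ J) := Ring.krullDimLE_zero_iff.mpr fun P hP => by
    have := hP.comap (Ideal.Quotient.mk J)
    obtain ⟨N, hN⟩ := hJ.pow
    have hle : RingHom.ker res ≤ P.comap (Ideal.Quotient.mk J) := this.le_of_pow_le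
      (hN.trans (by
        intro x hx
        rw [Ideal.mem_comap, Ideal.Quotient.eq_zero_iff_mem.2 hx]
        exact P.zero_mem))
    have he := (ker_isMaximal res hres).eq_of_le this.ne_top hle
    rw [← Ideal.map_comap_of_surjective _ Ideal.Quotient.mk_surjective P, ← he]
    exact (ker_isMaximal res hres).map_of_surjective_of_ker_le Ideal.Quotient.mk_surjective
      (by rw [Ideal.mk_ker]; exact hJ.le)
  exact IsNoetherianRing.isArtinianRing_of_krullDimLE_zero

theorem isLocalRing_quotient {res : S →ₐ[Λ] k} (hres : Function.Surjective res)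
    {J : Ideal S} (hJ : IsNear res J) : IsLocalRing (S ⧸ J) := by
  have hm : (Ideal.map (Ideal.Quotient.mk J) (RingHom.ker res)).IsMaximal :=
    (ker_isMaximal res hres).map_of_surjective_of_ker_le Ideal.Quotient.mk_surjective
      (by rw [Ideal.mk_ker]; exact hJ.le)
  refine IsLocalRing.of_unique_max_ideal ⟨_, hm, fun P hP => (hm.eq_of_le hP.ne_top ?_).symm⟩
  obtain ⟨N, hN⟩ := hJ.pow
  refine hP.isPrime.le_of_pow_le (n := N) ?_
  rw [← Ideal.map_pow]
  refine (Ideal.map_mono hN).trans ?_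
  rw [Ideal.map_quotient_self]
  exact bot_le

variable [IsNoetherianRing S] (res : S →ₐ[Λ] k) (hres : Function.Surjective res)

/-- The quotient by a near ideal as an object. -/
noncomputable def qobj (J : Ideal S) (hJ : IsNear res J) : Art Λ k :=
  { carrier := S ⧸ J
    isLocalRing := isLocalRing_quotient hres hJ
    isArtinianRing := isArtinianRing_quotient hres hJ
    res := Ideal.Quotient.liftₐ J res fun a ha => hJ.le ha
    res_surjective := fun c => (hres c).elim fun s hs => ⟨Ideal.Quotient.mk J s, hs⟩ }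

/-- The quotient map. -/
noncomputable def qmk (J : Ideal S) (hJ : IsNear res J) : S →ₐ[Λ] qobj res hres J hJ :=
  Ideal.Quotient.mkₐ Λ J

theorem qmk_surjective (J : Ideal S) (hJ : IsNear res J) : Function.Surjective (qmk res hres J hJ) :=
  Ideal.Quotient.mk_surjective

theorem qmk_eq_zero {J : Ideal S} (hJ : IsNear res J) (s : S) : qmk res hres J hJ s = 0 ↔ s ∈ J :=
  Ideal.Quotient.eq_zero_iff_mem

theorem res_qmk {J : Ideal S} (hJ : IsNear res J) (s : S) :
    (qobj res hres J hJ).res (qmk res hres J hJ s) = res s := rfl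

theorem qobj_hom_ext {J : Ideal S} {hJ : IsNear res J} {A : Art Λ k}
    {f g : qobj res hres J hJ ⟶ A} (h : ∀ s, f (qmk res hres J hJ s) = g (qmk res hres J hJ s)) :
    f = g :=
  hom_apply_ext fun x => (qmk_surjective res hres J hJ x).elim fun s hs => hs ▸ h s

/-- The map out of a quotient. -/
noncomputable def qlift {J : Ideal S} (hJ : IsNear res J) {A : Art Λ k} (φ : S →ₐ[Λ] A)
    (hφ : A.res.comp φ = res) (h : J ≤ RingHom.ker φ) : qobj res hres J hJ ⟶ A :=
  ⟨Ideal.Quotient.liftₐ J φ fun a ha => h ha, AlgHom.ext fun x =>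
    (qmk_surjective res hres J hJ x).elim fun s hs => hs ▸ DFunLike.congr_fun hφ s⟩

theorem qlift_qmk {J : Ideal S} (hJ : IsNear res J) {A : Art Λ k} (φ : S →ₐ[Λ] A)
    (hφ : A.res.comp φ = res) (h : J ≤ RingHom.ker φ) (s : S) :
    qlift res hres hJ φ hφ h (qmk res hres J hJ s) = φ s := rfl

/-- The transition map. -/
noncomputable def qTrans {I J : Ideal S} (hI : IsNear res I) (hJ : IsNear res J) (h : I ≤ J) :
    qobj res hres I hI ⟶ qobj res hres J hJ :=
  qlift res hres hI (qmk res hres J hJ) (AlgHom.ext fun _ => rfl)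
    fun s hs => (qmk_eq_zero res hres hJ s).2 (h hs)

theorem qTrans_qmk {I J : Ideal S} (hI : IsNear res I) (hJ : IsNear res J) (h : I ≤ J) (s : S) :
    qTrans res hres hI hJ h (qmk res hres I hI s) = qmk res hres J hJ s := rfl

theorem qTrans_surjective {I J : Ideal S} (hI : IsNear res I) (hJ : IsNear res J) (h : I ≤ J) :
    Function.Surjective (qTrans res hres hI hJ h) :=
  fun x => (qmk_surjective res hres J hJ x).elim fun s hs => ⟨qmk res hres I hI s, hs⟩

theorem qTrans_comp {I J K : Ideal S} (hI : IsNear res I) (hJ : IsNear res J) (hK : IsNear res K)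
    (h : I ≤ J) (h' : J ≤ K) :
    qTrans res hres hI hJ h ≫ qTrans res hres hJ hK h' = qTrans res hres hI hK (h.trans h') :=
  qobj_hom_ext res hres fun _ => rfl

theorem qTrans_refl {I : Ideal S} (hI : IsNear res I) : qTrans res hres hI hI le_rfl = 𝟙 _ :=
  qobj_hom_ext res hres fun _ => rfl

theorem isNear_ker {A : Art Λ k} (φ : S →ₐ[Λ] A) (hφ : A.res.comp φ = res) :
    IsNear res (RingHom.ker φ) := by
  refine ⟨fun s hs => ?_, ?_⟩
  · rw [RingHom.mem_ker] at hs ⊢
    rw [← hφ, AlgHom.comp_apply, hs, map_zero]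
  · obtain ⟨N, hN⟩ : IsNilpotent (IsLocalRing.maximalIdeal A) :=
      (isArtinianRing_iff_isNilpotent_maximalIdeal A).1 inferInstance
    refine ⟨N, fun s hs => ?_⟩
    have hle : (RingHom.ker res).map φ ≤ IsLocalRing.maximalIdeal A := Ideal.map_le_iff_le_comap.2
      fun t ht => by
        rw [Ideal.mem_comap, mem_maximalIdeal_iff, ← AlgHom.comp_apply, hφ]
        exact ht
    have := Ideal.pow_right_mono hle N
    rw [← Ideal.map_pow, hN] at this
    exact Ideal.mem_bot.1 (this (Ideal.mem_map_of_mem _ hs))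

/-- Quotients by two ideals over the quotient by their sum. -/
theorem isFibreProd_inf {I J K : Ideal S} (hI : IsNear res I) (hJ : IsNear res J) (hK : IsNear res K)
    (hIK : I ≤ K) (hJK : J ≤ K) (h : K ≤ I ⊔ J) :
    IsFibreProd (qTrans res hres (hI.inf hJ) hI inf_le_left) (qTrans res hres (hI.inf hJ) hJ inf_le_right)
      (qTrans res hres hI hK hIK) (qTrans res hres hJ hK hJK) where
  w := qobj_hom_ext res hres fun _ => rfl
  inj x y h₁ h₂ := by
    obtain ⟨s, rfl⟩ := qmk_surjective res hres _ _ x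
    obtain ⟨t, rfl⟩ := qmk_surjective res hres _ _ y
    rw [← sub_eq_zero, ← map_sub, qmk_eq_zero]
    rw [qTrans_qmk, qTrans_qmk, ← sub_eq_zero, ← map_sub, qmk_eq_zero] at h₁ h₂
    exact ⟨h₁, h₂⟩
  surj x y e := by
    obtain ⟨s, rfl⟩ := qmk_surjective res hres _ _ x
    obtain ⟨t, rfl⟩ := qmk_surjective res hres _ _ y
    rw [qTrans_qmk, qTrans_qmk, ← sub_eq_zero, ← map_sub, qmk_eq_zero] at e
    obtain ⟨a, ha, b, hb, hab⟩ := Submodule.mem_sup.1 (h e)
    refine ⟨qmk res hres _ _ (s - a), ?_, ?_⟩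
    · rw [qTrans_qmk, ← sub_eq_zero, ← map_sub, qmk_eq_zero]
      simpa using ha
    · rw [qTrans_qmk, ← sub_eq_zero, ← map_sub, qmk_eq_zero]
      rw [show s - a - t = b by linear_combination -hab]
      exact hb

end Groth.Agent.ArtFunLib.Hull
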