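import Groth.Agent.ArtFunLib.Hull.Build
import Groth.Agent.ArtFunLib.Tangent
import Mathlib.Algebra.MvPolynomial.CommRing
import Mathlib.RingTheory.Polynomial.Basic
import Mathlib.LinearAlgebra.FiniteDimensional.Basic
import Mathlib.LinearAlgebra.StdBasis

/-! The first order seed, and Schlessinger's theorem. -/

universe u v

open CategoryTheory ArtFun ArtFun.Art

namespace Groth.Agent.ArtFunLib.Hull

variable {Λ : Type u} {k : Type u} [CommRing Λ] [Field k] [Algebra Λ k]

/-- `k ⊕ k^n` as an object. -/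
abbrev En (n : ℕ) : Art Λ k := tsze (Λ := Λ) (k := k) (Fin n → k)

/-- The map to `k[ε]` of a linear form. -/
def lmap {n : ℕ} (l : (Fin n → k) →ₗ[k] k) : (En n : Art Λ k) ⟶ dual Λ k :=
  ⟨tszeMap l, AlgHom.ext fun _ => rfl⟩

/-- Forgetting the first coordinate. -/
def tailMap (n : ℕ) : (En (n + 1) : Art Λ k) ⟶ En n :=
  ⟨tszeMap (LinearMap.funLeft k k Fin.succ), AlgHom.ext fun _ => rfl⟩

theorem isFibreProd_En (n : ℕ) :
    IsFibreProd (tailMap n : (En (n + 1) : Art Λ k) ⟶ _) (lmap (LinearMap.proj 0))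
      (toBase (En n)) (toBase (dual Λ k)) where
  w := by rw [eq_toBase (_ ≫ toBase (En n)), eq_toBase (_ ≫ toBase (dual Λ k))]
  inj b₁ b₂ h₁ h₂ := by
    have e₁ : b₁.fst = b₂.fst := by have e := congrArg TrivSqZeroExt.fst h₁; exact e
    have e₂ : ∀ i : Fin n, b₁.snd i.succ = b₂.snd i.succ := fun i => by
      have e := congrArg TrivSqZeroExt.snd h₁
      exact congrFun e i
    have e₃ : b₁.snd 0 = b₂.snd 0 := by have e := congrArg TrivSqZeroExt.snd h₂; exact e
    exact TrivSqZeroExt.ext e₁ (funext (Fin.cases e₃ e₂))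
  surj a' a'' h := by
    have h' : a'.fst = a''.fst := h
    exact ⟨(a'.fst, Fin.cons a''.snd a'.snd), TrivSqZeroExt.ext rfl (funext fun i =>
      Fin.cons_succ (α := fun _ => k) a''.snd a'.snd i),
      TrivSqZeroExt.ext h' (Fin.cons_zero (α := fun _ => k) a''.snd a'.snd)⟩

variable {F : Art Λ k ⥤ Type v}

theorem exists_first_order [TangentStr F] (h0 : H0 F) (h2 : Heps F) :
    ∀ (n : ℕ) (b : Fin n → TangentSpace F), ∃ ξ : F.obj (En n), ∀ l : (Fin n → k) →ₗ[k] k,
      TangentSpace.mk (F.map (lmap l) ξ) = ∑ i, l (Pi.single i 1) • b i := by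
  intro n
  induction n with
  | zero =>
    intro b
    obtain ⟨b₀⟩ := h0.1
    let inc : base Λ k ⟶ (En 0 : Art Λ k) :=
      ⟨(Algebra.ofId k (TrivSqZeroExt k (Fin 0 → k))).restrictScalars Λ, AlgHom.ext fun _ => rfl⟩
    refine ⟨F.map inc b₀, fun l => ?_⟩
    rw [Finset.univ_eq_empty, Finset.sum_empty, tangent_zero_eq (F.map baseToDual b₀), map_comp',
      show F.map (toBase (dual Λ k)) (F.map baseToDual b₀) = b₀ from @Subsingleton.elim _ h0.2 _ _,
      ← map_comp']
    refine congrArg (fun f => TangentSpace.mk (F.map f b₀)) (hom_apply_ext fun c => ?_)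
    exact TrivSqZeroExt.ext rfl (map_zero l)
  | succ n ih =>
    intro b
    obtain ⟨ξ, hξ⟩ := ih fun i => b i.succ
    obtain ⟨z, hz₁, hz₂⟩ := exists_of_cmp_surjective (h2 _ _ (isFibreProd_En n)).2 ξ
      (TangentSpace.val (b 0)) (map_toBase_eq h0 _ _)
    refine ⟨z, fun l => ?_⟩
    let l₁ : (Fin n → k) →ₗ[k] k := l ∘ₗ
      (LinearMap.pi (Fin.cases 0 fun i => LinearMap.proj i) : (Fin n → k) →ₗ[k] Fin (n + 1) → k)
    let L₁ : (Fin (n + 1) → k) →ₗ[k] k := l₁ ∘ₗ LinearMap.funLeft k k Fin.succ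
    let L₂ : (Fin (n + 1) → k) →ₗ[k] k :=
      (l (Pi.single 0 1) • LinearMap.id) ∘ₗ LinearMap.proj 0
    let φ : (En (n + 1) : Art Λ k) ⟶ dual2 Λ k := ⟨tszeMap (L₁.prod L₂), AlgHom.ext fun _ => rfl⟩
    have hl₁ : ∀ i : Fin n, l₁ (Pi.single i 1) = l (Pi.single i.succ 1) := fun i => by
      refine congrArg l (funext fun j => ?_)
      refine Fin.cases ?_ (fun j => ?_) j
      · simp [Fin.succ_ne_zero]
      · simp [Pi.single_apply, Fin.succ_inj]
    have hL : L₁ + L₂ = l := by
      refine LinearMap.pi_ext' fun j => LinearMap.ext_ring ?_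
      change l₁ (fun i => (Pi.single j (1 : k) : Fin (n + 1) → k) i.succ) +
        l (Pi.single 0 1) * (Pi.single j (1 : k) : Fin (n + 1) → k) 0 = l (Pi.single j 1)
      refine Fin.cases ?_ (fun i => ?_) j
      · rw [show (fun i : Fin n => (Pi.single 0 (1 : k) : Fin (n + 1) → k) i.succ) = 0 from
          funext fun i => Pi.single_eq_of_ne (Fin.succ_ne_zero i) _]
        simp
      · rw [show (fun m : Fin n => (Pi.single i.succ (1 : k) : Fin (n + 1) → k) m.succ) =
          Pi.single i 1 from funext fun m => by simp [Pi.single_apply, Fin.succ_inj], hl₁]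
        simp [Fin.succ_ne_zero]
    have h₁ : φ ≫ pr₁ = tailMap n ≫ lmap l₁ :=
      hom_apply_ext fun _ => TrivSqZeroExt.ext rfl rfl
    have h₂ : φ ≫ pr₂ = lmap (LinearMap.proj 0) ≫ scale (l (Pi.single 0 1)) :=
      hom_apply_ext fun _ => TrivSqZeroExt.ext rfl rfl
    have h₃ : φ ≫ plus = lmap l := by
      rw [← hL]
      exact hom_apply_ext fun _ => TrivSqZeroExt.ext rfl rfl
    rw [← h₃, map_comp', ← tangent_add_eq, ← map_comp', ← map_comp', h₁, h₂, map_comp', map_comp',
      hz₁, hz₂, ← tangent_smul_eq, hξ, Fin.sum_univ_succ, add_comm]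
    simp only [hl₁]
    rfl

/-- Every point of `k ⊕ k^n` over `k[ε]` is given by a linear form. -/
theorem exists_hom_eq_aeval {n : ℕ} (φ : MvPolynomial (Fin n) Λ →ₐ[Λ] dual Λ k)
    (hφ : (dual Λ k).res.comp φ = MvPolynomial.aeval (fun _ => (0 : k))) :
    ∃ l : (Fin n → k) →ₗ[k] k, (lmap l : (En n : Art Λ k) ⟶ _).toAlgHom.comp
      (MvPolynomial.aeval fun i => (TrivSqZeroExt.inr (Pi.single i 1) : TrivSqZeroExt k (Fin n → k))) =
      φ := by
  refine ⟨Fintype.linearCombination k fun i => TrivSqZeroExt.snd (φ (MvPolynomial.X i)),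
    MvPolynomial.algHom_ext fun i => ?_⟩
  let v : Fin n → TrivSqZeroExt k (Fin n → k) := fun i => TrivSqZeroExt.inr (Pi.single i 1)
  refine ((congrArg (lmap (Fintype.linearCombination k fun i =>
    TrivSqZeroExt.snd (φ (MvPolynomial.X i))) : (En n : Art Λ k) ⟶ _).toAlgHom
      (MvPolynomial.aeval_X (R := Λ) v i)).trans (TrivSqZeroExt.ext ?_ ?_) :)
  · exact ((DFunLike.congr_fun hφ (MvPolynomial.X i)).trans (MvPolynomial.aeval_X (fun _ => (0 : k)) i)).symm
  · change Fintype.linearCombination k (fun i => TrivSqZeroExt.snd (φ (MvPolynomial.X i)))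
      (Pi.single i 1) = _
    rw [Fintype.linearCombination_apply_single, one_smul]

theorem algebraMap_aeval_surjective (hk : Function.Surjective (algebraMap Λ k)) (n : ℕ) :
    Function.Surjective (MvPolynomial.aeval (R := Λ) fun i =>
      (TrivSqZeroExt.inr (Pi.single i 1) : TrivSqZeroExt k (Fin n → k))) := by
  intro x
  obtain ⟨a, ha⟩ := hk x.fst
  choose c hc using fun i => hk (x.snd i)
  refine ⟨MvPolynomial.C a + ∑ i, MvPolynomial.C (c i) * MvPolynomial.X i, ?_⟩
  rw [map_add, map_sum]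
  simp only [map_mul, MvPolynomial.aeval_C, MvPolynomial.aeval_X,
    TrivSqZeroExt.algebraMap_eq_inl', ha, hc, TrivSqZeroExt.inl_mul_inr]
  refine TrivSqZeroExt.ext ?_ ?_
  · simp [TrivSqZeroExt.fst_sum]
  · simp only [TrivSqZeroExt.snd_add, TrivSqZeroExt.snd_inl, zero_add, TrivSqZeroExt.snd_sum,
      TrivSqZeroExt.snd_inr]
    exact (pi_eq_sum_univ' x.snd).symm

/-- Schlessinger's theorem: `H̄`, `H_ε`, `H_f` give a hull when `Λ → k` is onto. -/
theorem hasHull_of_surjective [IsNoetherianRing Λ] [Module.Finite Λ k]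
    (hk : Function.Surjective (algebraMap Λ k)) [TangentStr F] (h0 : H0 F) (h1 : Hbar F)
    (h2 : Heps F) (h3 : Hfin F) : HasHull F := by
  have : Module.Finite k (TangentSpace F) := h3
  let n := Module.finrank k (TangentSpace F)
  let b := Module.finBasis k (TangentSpace F)
  obtain ⟨ξ, hξ⟩ := exists_first_order h0 h2 n b
  let res : MvPolynomial (Fin n) Λ →ₐ[Λ] k := MvPolynomial.aeval fun _ => 0
  have hres : Function.Surjective res := fun c => by
    obtain ⟨a, ha⟩ := hk c
    exact ⟨MvPolynomial.C a, (MvPolynomial.aeval_C _ a).trans ha⟩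
  let π : MvPolynomial (Fin n) Λ →ₐ[Λ] (En n : Art Λ k) :=
    MvPolynomial.aeval fun i => (TrivSqZeroExt.inr (Pi.single i 1) : TrivSqZeroExt k (Fin n → k))
  have hπr : (En n : Art Λ k).res.comp π = res := MvPolynomial.algHom_ext fun i =>
    (congrArg TrivSqZeroExt.fst (MvPolynomial.aeval_X _ i)).trans (MvPolynomial.aeval_X (fun _ => (0 : k)) i).symm
  have hJ := isNear_ker res π hπr
  let ε := qlift res hres hJ π hπr le_rfl
  have : IsIso ε := isIso_of_bijective ε ⟨(injective_iff_map_eq_zero ε.toAlgHom).2 fun a ha => by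
    obtain ⟨s, rfl⟩ := qmk_surjective res hres _ hJ a
    exact (qmk_eq_zero res hres hJ s).2 (RingHom.mem_ker.2 ha), fun a =>
      (algebraMap_aeval_surjective hk n a).elim fun s hs => ⟨qmk res hres _ hJ s, hs⟩⟩
  have hform : ∀ g : qobj res hres _ hJ ⟶ dual Λ k, ∃ l, g = ε ≫ lmap l := fun g => by
    obtain ⟨l, hl⟩ := exists_hom_eq_aeval (g.toAlgHom.comp (qmk res hres _ hJ))
      (by rw [← AlgHom.comp_assoc, g.res_comp]; rfl)
    exact ⟨l, qobj_hom_ext res hres fun s => (DFunLike.congr_fun hl s).symm⟩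
  have hx : ∀ l, TangentSpace.mk (F.map (ε ≫ lmap l) (F.map (inv ε) ξ)) =
      ∑ i, l (Pi.single i 1) • b i := fun l => by
    rw [← hξ, ← map_comp', ← Category.assoc, IsIso.inv_hom_id, Category.id_comp]
  obtain ⟨R, η, -, hmin⟩ := exists_family h0 h1 h2
    (res := res) (hres := hres) (J₀ := RingHom.ker π) (hJ₀ := hJ)
    (fun B A p hp φ hφ => by
      choose y hy using fun i => hp.1 (φ (MvPolynomial.X i))
      exact ⟨MvPolynomial.aeval y, MvPolynomial.algHom_ext fun i =>
        (congrArg p.toAlgHom (MvPolynomial.aeval_X y i)).trans (hy i)⟩)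
    (F.map (inv ε) ξ) (fun t => by
      let l := Fintype.linearCombination k fun i => b.repr (TangentSpace.mk t) i
      refine ⟨ε ≫ lmap l, ?_⟩
      refine ((hx l).trans (Eq.trans ?_ (b.sum_repr (TangentSpace.mk t))) : _)
      simp [l, Fintype.linearCombination_apply_single])
  refine ⟨⟨R, η, hmin (fun φ hφ => ?_) fun g₁ g₂ e => ?_⟩⟩
  · obtain ⟨l, hl⟩ := exists_hom_eq_aeval φ hφ
    intro s hs
    rw [RingHom.mem_ker, ← hl, AlgHom.comp_apply]
    exact (congrArg _ (RingHom.mem_ker.1 hs)).trans (map_zero _)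
  · obtain ⟨l₁, rfl⟩ := hform g₁
    obtain ⟨l₂, rfl⟩ := hform g₂
    have e' := ((hx l₁).symm.trans ((congrArg TangentSpace.mk e).trans (hx l₂)) :)
    rw [show l₁ = l₂ from LinearMap.pi_ext' fun i => LinearMap.ext_ring
      (Fintype.linearIndependent_iff.1 b.linearIndependent
        (fun i => l₁ (Pi.single i 1) - l₂ (Pi.single i 1))
        (by
          simp only [sub_smul, Finset.sum_sub_distrib]
          exact sub_eq_zero.2 e') i |> sub_eq_zero.1)]

end Groth.Agent.ArtFunLib.Hull
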